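import Groth.Agent.FunFld.K666.Conorm
import Groth.Agent.FunFld.K661.OverFF
import Groth.Agent.FunFld.K660.Compare

/-!
# Degree of the conorm and conorm of a principal divisor

`K'/K` finite, `K` finite over `k(t)` (`IsGen`); the constant fields of `K`, `K'` may be bigger than `k`.
-/

set_option autoImplicit false
open FunFld WithZero K661.Place K660.Places K666.Conorm

namespace K662.Conorm

variable {k K K' : Type*} [Field k] [Field K] [Field K'] [Algebra k K] [Algebra K K'] [Algebra k K']

/-- Finitely many zeros and poles. -/
theorem finite_support_ord (hG : ∃ t : K, IsGen k K t) (x : K) :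
    (Function.support fun P : Place k K => P.ord x).Finite := by
  obtain ⟨t, ht⟩ := hG
  refine ((ht.finite_pole x).union (ht.finite_pole x⁻¹)).subset ?_
  intro P hP
  by_contra hcon
  simp only [Set.mem_union, Set.mem_ofPred_eq, not_or, not_not] at hcon
  apply hP
  by_cases hx : x = 0
  · simp [hx, Place.ord]
  · rw [K660.Ord.val_le_one_iff P hx, K660.Ord.val_le_one_iff P (inv_ne_zero hx),
      K660.Ord.ord_inv] at hcon
    change P.ord x = 0
    omega

theorem div_apply (hG : ∃ t : K, IsGen k K t) (x : K) (P : Place k K) : div k x P = P.ord x := by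
  unfold FunFld.div
  rw [dif_pos (finite_support_ord hG x)]
  rfl

variable [IsScalarTower k K K'] [FiniteDimensional K K']

theorem exists_isGen' (hG : ∃ t : K, IsGen k K t) : ∃ t : K', IsGen k K' t := by
  obtain ⟨t, ht⟩ := hG
  exact ⟨_, K661.OverFF.isGen_algebraMap ht⟩

/-- The value of a conorm at a place. -/
theorem conorm_apply (hG : ∃ t : K, IsGen k K t) (D : Divisor k K) {Q : Place k K'} {P : Place k K}
    (h : IsOver Q P) : conorm K' D Q = ramIdx Q P * D P := by
  classical
  rw [conorm_eq, Finsupp.sum, Finsupp.finsetSum_apply]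
  have h1 : ∀ P' : Place k K, (D P' • cP K' P' : Divisor k K') Q = D P' * ramIdx Q P' := by
    intro P'
    rw [Finsupp.smul_apply, cP_apply P' (K661.OverFF.finite_over hG P'), smul_eq_mul]
  simp only [h1]
  rw [Finset.sum_eq_single P]
  · ring
  · intro P' _ hne
    rw [ramIdx_eq_zero (Q := Q) (P := P'), Nat.cast_zero, mul_zero]
    intro h'
    exact hne (below_unique h' h)
  · intro hP
    rw [Finsupp.notMem_support_iff] at hP
    rw [hP, zero_mul]

/-- The conorm of a principal divisor. -/
theorem div_algebraMap (hG : ∃ t : K, IsGen k K t) (x : K) :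
    div k (algebraMap K K' x) = conorm K' (div k x) := by
  ext Q
  obtain ⟨P, hP⟩ := exists_below (K := K) Q
  rw [conorm_apply hG _ hP, div_apply hG, div_apply (exists_isGen' hG), ord_algebraMap hP]

theorem deg_cP (hG : ∃ t : K, IsGen k K t) (P : Place k K) :
    (cP K' P).deg = Module.finrank K K' * P.deg := by
  classical
  have hfin := K661.OverFF.finite_over (K' := K') hG P
  rw [cP, dif_pos hfin]
  have h := K661.OverFF.sum_ramIdx_mul_deg (K' := K') hG P hfin.toFinset (fun Q => by simp)
  have h2 : ∀ s : Finset (Place k K'), Divisor.deg (s.sum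
        (fun Q => (ramIdx Q P : ℤ) • Finsupp.single Q (1 : ℤ))) =
      ∑ Q ∈ s, ((ramIdx Q P : ℤ) * (Q.deg : ℤ)) := by
    intro s
    induction s using Finset.induction_on with
    | empty => simp
    | insert a s ha ih =>
      rw [Finset.sum_insert ha, Finset.sum_insert ha, K660.Compare.deg_add, ih,
        K660.Compare.deg_zsmul, K660.Compare.deg_single, one_mul]
  rw [h2]
  exact_mod_cast h

/-- The degree of a conorm. -/
theorem deg_conorm (hG : ∃ t : K, IsGen k K t) (D : Divisor k K) :
    (conorm K' D).deg = Module.finrank K K' * D.deg := by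
  classical
  have h2 : ∀ s : Finset (Place k K), Divisor.deg (s.sum (fun P => D P • cP K' P)) =
      ∑ P ∈ s, (D P * (cP K' P).deg) := by
    intro s
    induction s using Finset.induction_on with
    | empty => simp
    | insert a s ha ih =>
      rw [Finset.sum_insert ha, Finset.sum_insert ha, K660.Compare.deg_add, ih,
        K660.Compare.deg_zsmul]
  rw [conorm_eq, Finsupp.sum, h2, Divisor.deg, Finsupp.sum, Finset.mul_sum]
  refine Finset.sum_congr rfl fun P _ => ?_
  rw [deg_cP hG]
  ring

end K662.Conorm
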