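import Groth.Agent.FunFld.K662.Conorm
import Groth.Agent.FunFld.K661.Galois
import Groth.Agent.FunFld.K666.QuadPl
import Groth.Agent.FunFld.K666.RatPl
import Groth.Agent.FunFld.K660.LowGenus
import Mathlib.Algebra.CharP.Two

/-!
# The genus of an Artin-Schreier extension of degree two in characteristic two

`K/K₀` of degree 2, `K = K₀(y)`, `y² + y = f`, all poles of `f` of odd order. With `F = ∑ (1 - ord_P f)/2 P` over the
poles: `L(N* E) = L(E) ⊕ L(E - F) y`, hence `g_K = 2 g_{K₀} - 1 + deg F`.
-/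

set_option autoImplicit false
set_option linter.unusedSectionVars false
open WithZero FunFld K661.Place K660.Places K661.Galois K660.Ord

namespace K662.ASGenus

variable {k K₀ K : Type*} [Field k] [Field K₀] [Field K] [Algebra k K₀] [Algebra K₀ K] [Algebra k K]
  [IsScalarTower k K₀ K]

section Alg

variable {y : K} {f : K₀}

theorem eq_zero_of_comb (hy : y ∉ Set.range (algebraMap K₀ K)) {a b : K₀}
    (h : algebraMap K₀ K a + algebraMap K₀ K b * y = 0) : a = 0 ∧ b = 0 := by
  have hb : b = 0 := by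
    by_contra hb
    apply hy
    refine ⟨-a / b, ?_⟩
    have hb' : algebraMap K₀ K b ≠ 0 := by simpa using hb
    rw [map_div₀, map_neg]
    field_simp
    linear_combination -h
  rw [hb, map_zero, zero_mul, add_zero, map_eq_zero] at h
  exact ⟨h, hb⟩

theorem exists_comb (hdeg : Module.finrank K₀ K = 2) (hy : y ∉ Set.range (algebraMap K₀ K)) (z : K) :
    ∃ a b : K₀, z = algebraMap K₀ K a + algebraMap K₀ K b * y := by
  have hfin : FiniteDimensional K₀ K := Module.finite_of_finrank_eq_succ hdeg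
  let φ : (K₀ × K₀) →ₗ[K₀] K :=
    { toFun := fun p => algebraMap K₀ K p.1 + algebraMap K₀ K p.2 * y
      map_add' := fun p q => by simp only [Prod.fst_add, Prod.snd_add, map_add]; ring
      map_smul' := fun c p => by
        change algebraMap K₀ K (c * p.1) + algebraMap K₀ K (c * p.2) * y =
          c • (algebraMap K₀ K p.1 + algebraMap K₀ K p.2 * y)
        rw [map_mul, map_mul, Algebra.smul_def]
        ring }
  have hinj : Function.Injective φ := by
    rw [injective_iff_map_eq_zero]
    rintro ⟨a, b⟩ hab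
    obtain ⟨h1, h2⟩ := eq_zero_of_comb hy hab
    exact Prod.ext h1 h2
  have hsurj : Function.Surjective φ := by
    refine (LinearMap.injective_iff_surjective_of_finrank_eq_finrank ?_).1 hinj
    rw [Module.finrank_prod, Module.finrank_self, hdeg]
  obtain ⟨⟨a, b⟩, hab⟩ := hsurj z
  exact ⟨a, b, hab.symm⟩

end Alg

section Local

variable {y : K} {f : K₀} {Q : Place k K} {P : Place k K₀} (h : IsOver Q P)
  (heq : y ^ 2 + y = algebraMap K₀ K f)
include h heq

theorem val_y_le (hf : P.1 f ≤ 1) : Q.1 y ≤ 1 := by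
  by_contra hcon
  push Not at hcon
  have h1 : Q.1 (y ^ 2 + y) = Q.1 y ^ 2 := by
    rw [← map_pow]
    refine Valuation.map_add_eq_of_lt_left _ ?_
    rw [map_pow]
    exact lt_self_pow₀ hcon (by norm_num)
  have h2 : Q.1 (algebraMap K₀ K f) ≤ 1 := (val_algebraMap_le_one_iff h f).2 hf
  rw [← heq, h1] at h2
  exact absurd h2 (not_le.2 (one_lt_pow₀ hcon (by norm_num)))

theorem ord_y (hf : P.ord f < 0) : 2 * Q.ord y = ramIdx Q P * P.ord f := by
  have he := ramIdx_pos h
  have h0 : Q.ord (algebraMap K₀ K f) < 0 := by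
    rw [K661.Place.ord_algebraMap h]
    have : (1 : ℤ) ≤ ramIdx Q P := by exact_mod_cast he
    nlinarith
  have hy1 : 1 < Q.1 y := by
    by_contra hcon
    push Not at hcon
    have h2 : Q.1 (algebraMap K₀ K f) ≤ 1 := by
      rw [← heq]
      refine (Q.1.map_add _ _).trans (max_le ?_ hcon)
      rw [map_pow]
      exact pow_le_one' hcon _
    rw [← one_lt_val_iff] at h0
    exact absurd h2 (not_le.2 h0)
  have h1 : Q.ord (y ^ 2 + y) = 2 * Q.ord y := by
    have h2 : Q.1 (y ^ 2 + y) = Q.1 (y ^ 2) := by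
      refine Valuation.map_add_eq_of_lt_left _ ?_
      rw [map_pow]
      exact lt_self_pow₀ hy1 (by norm_num)
    rw [ord_def, h2, ← ord_def, ord_pow]
    rfl
  rw [← h1, heq, K661.Place.ord_algebraMap h]

end Local

section Local2

variable {y : K} {f : K₀} (hK₀ : IsFunctionField k K₀) (hdeg : Module.finrank K₀ K = 2)
  (hy : y ∉ Set.range (algebraMap K₀ K)) (heq : y ^ 2 + y = algebraMap K₀ K f)
include hK₀ hdeg hy heq

/-- The local condition at an odd pole of `f`. -/
theorem local_pole {Q : Place k K} {P : Place k K₀} (h : IsOver Q P) (hf : P.ord f < 0)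
    (hodd : Odd (P.ord f)) (n : ℤ) (a b : K₀) :
    Q.1 (algebraMap K₀ K a + algebraMap K₀ K b * y) ≤ exp (ramIdx Q P * n) ↔
      P.1 a ≤ exp n ∧ P.1 b ≤ exp (n - (1 - P.ord f) / 2) := by
  have hy2 := ord_y h heq hf
  have he : ramIdx Q P = 2 := by
    refine (K666.QuadPl.ramIdx_eq_two hK₀ hdeg Q P h f hodd ?_).1
    rw [K661.Place.ord_algebraMap h, ← hy2]
    exact even_two_mul _
  rw [he] at hy2 ⊢
  have hy3 : Q.ord y = P.ord f := by
    push_cast at hy2
    omega
  have hy0 : y ≠ 0 := by
    rintro rfl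
    exact hy ⟨0, map_zero _⟩
  obtain ⟨d, hd⟩ := hodd
  have hae : ∀ c : K₀, c ≠ 0 → Q.ord (algebraMap K₀ K c) = 2 * P.ord c := by
    intro c _
    rw [K661.Place.ord_algebraMap h, he]
    rfl
  by_cases hb : b = 0
  · subst hb
    rw [map_zero, zero_mul, add_zero]
    by_cases ha : a = 0
    · subst ha
      simp
    · have ha' : algebraMap K₀ K a ≠ 0 := by simpa using ha
      rw [K660.Ord.val_le_exp_iff Q ha', K660.Ord.val_le_exp_iff P ha, hae a ha, map_zero]
      simp only [zero_le, and_true]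
      push_cast
      omega
  · have hb' : algebraMap K₀ K b ≠ 0 := by simpa using hb
    have hby : Q.ord (algebraMap K₀ K b * y) = 2 * P.ord b + P.ord f := by
      rw [K660.Ord.ord_mul Q hb' hy0, hae b hb, hy3]
    by_cases ha : a = 0
    · subst ha
      rw [map_zero, zero_add, K660.Ord.val_le_exp_iff Q (mul_ne_zero hb' hy0),
        K660.Ord.val_le_exp_iff P hb, hby, map_zero]
      simp only [zero_le, true_and]
      push_cast
      omega
    · have ha' : algebraMap K₀ K a ≠ 0 := by simpa using ha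
      have hab : algebraMap K₀ K a + algebraMap K₀ K b * y ≠ 0 := fun h0 =>
        ha (eq_zero_of_comb hy h0).1
      rw [K660.Ord.val_le_exp_iff Q hab, K660.Ord.val_le_exp_iff P ha,
        K660.Ord.val_le_exp_iff P hb]
      rcases lt_or_ge (Q.ord (algebraMap K₀ K a)) (Q.ord (algebraMap K₀ K b * y)) with hlt | hge
      · rw [ord_add_eq_of_lt Q ha' (mul_ne_zero hb' hy0) hlt]
        rw [hae a ha] at hlt ⊢
        rw [hby] at hlt
        push_cast
        omega
      · have hlt : Q.ord (algebraMap K₀ K b * y) < Q.ord (algebraMap K₀ K a) := by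
          rw [hae a ha, hby] at hge ⊢
          omega
        rw [add_comm, ord_add_eq_of_lt Q (mul_ne_zero hb' hy0) ha' hlt]
        rw [hae a ha] at hlt
        rw [hby] at hlt ⊢
        push_cast
        omega

/-- The local condition at a place where `f` is integral. -/
theorem local_nonpole [FiniteDimensional K₀ K] (σ : K ≃ₐ[K₀] K) (hσ : σ y = y + 1) {P : Place k K₀}
    (hf : P.1 f ≤ 1) (n : ℤ) (a b : K₀) :
    (∀ Q : Place k K, IsOver Q P →
      Q.1 (algebraMap K₀ K a + algebraMap K₀ K b * y) ≤ exp (ramIdx Q P * n)) ↔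
      P.1 a ≤ exp n ∧ P.1 b ≤ exp n := by
  have hpow : ∀ {Q : Place k K}, IsOver Q P → ∀ c : K₀,
      Q.1 (algebraMap K₀ K c) ≤ exp (ramIdx Q P * n) ↔ P.1 c ≤ exp n := by
    intro Q h c
    rw [K661.Place.val_algebraMap h]
    have : (exp (ramIdx Q P * n) : ℤᵐ⁰) = exp n ^ (ramIdx Q P) := by
      rw [← exp_nsmul, nsmul_eq_mul]
    rw [this]
    exact pow_le_pow_iff_left₀ zero_le zero_le (by have := ramIdx_pos h; omega)
  constructor
  · intro hall
    obtain ⟨Q, h⟩ := K666.Ext.exists_over (K' := K) hK₀ P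
    have hy1 := val_y_le h heq hf
    have h1 := hall Q h
    have h2 := hall (comapEquiv Q σ) (isOver_comapEquiv σ h)
    rw [comapEquiv_val, ramIdx_comapEquiv σ h, map_add, map_mul, AlgEquiv.commutes,
      AlgEquiv.commutes, hσ] at h2
    have h3 : Q.1 (algebraMap K₀ K b) ≤ exp (ramIdx Q P * n) := by
      have h4 : algebraMap K₀ K b = (algebraMap K₀ K a + algebraMap K₀ K b * (y + 1)) -
          (algebraMap K₀ K a + algebraMap K₀ K b * y) := by ring
      rw [h4]
      exact (Q.1.map_sub _ _).trans (max_le h2 h1)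
    have h5 : Q.1 (algebraMap K₀ K a) ≤ exp (ramIdx Q P * n) := by
      have h4 : algebraMap K₀ K a = (algebraMap K₀ K a + algebraMap K₀ K b * y) -
          algebraMap K₀ K b * y := by ring
      rw [h4]
      refine (Q.1.map_sub _ _).trans (max_le h1 ?_)
      rw [map_mul]
      exact (mul_le_mul' h3 hy1).trans_eq (mul_one _)
    exact ⟨(hpow h a).1 h5, (hpow h b).1 h3⟩
  · rintro ⟨ha, hb⟩ Q h
    have hy1 := val_y_le h heq hf
    refine (Q.1.map_add _ _).trans (max_le ((hpow h a).2 ha) ?_)
    rw [map_mul]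
    exact (mul_le_mul' ((hpow h b).2 hb) hy1).trans_eq (mul_one _)

end Local2

section Global

/-- The divisor `∑ (1 - ord_P f)/2 · P` over the poles of `f`. -/
noncomputable def FDiv (f : K₀) : Divisor k K₀ :=
  (div k f).mapRange (fun n : ℤ => if n < 0 then (1 - n) / 2 else 0) (by simp)

theorem FDiv_apply (f : K₀) (P : Place k K₀) :
    FDiv (k := k) f P = if div k f P < 0 then (1 - div k f P) / 2 else 0 := rfl

theorem deg_FDiv (f : K₀) : (FDiv (k := k) f).deg = ∑ P ∈ (div k f).support with div k f P < 0,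
      (1 - div k f P) / 2 * (P.deg : ℤ) := by
  unfold Divisor.deg FDiv
  rw [Finsupp.sum_mapRange_index (fun _ => by simp), Finsupp.sum, Finset.sum_filter]
  refine Finset.sum_congr rfl fun P _ => ?_
  split_ifs <;> simp

variable {y : K} {f : K₀} (hK₀ : IsFunctionField k K₀) (hdeg : Module.finrank K₀ K = 2)
  (hy : y ∉ Set.range (algebraMap K₀ K)) (heq : y ^ 2 + y = algebraMap K₀ K f)
  (hodd : ∀ P : Place k K₀, div k f P < 0 → Odd (div k f P))
include hK₀ hdeg hy heq hodd

theorem mem_L_conorm_iff (σ : K ≃ₐ[K₀] K) (hσ : σ y = y + 1) (E : Divisor k K₀) (a b : K₀) :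
    algebraMap K₀ K a + algebraMap K₀ K b * y ∈ L (conorm K E) ↔
      a ∈ L E ∧ b ∈ L (E - FDiv f) := by
  have hfin : FiniteDimensional K₀ K := Module.finite_of_finrank_eq_succ hdeg
  have hG := exists_isGen hK₀
  have hdiv : ∀ P : Place k K₀, div k f P = P.ord f := fun P => K662.Conorm.div_apply hG f P
  have hloc : ∀ P : Place k K₀, (∀ Q : Place k K, IsOver Q P →
      Q.1 (algebraMap K₀ K a + algebraMap K₀ K b * y) ≤ exp (ramIdx Q P * E P)) ↔
      (P.1 a ≤ exp (E P) ∧ P.1 b ≤ exp ((E - FDiv f : Divisor k K₀) P)) := by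
    intro P
    rw [Finsupp.sub_apply, FDiv_apply, hdiv]
    split_ifs with hP
    · have hoddP : Odd (P.ord f) := by
        rw [← hdiv]
        exact hodd P (by rw [hdiv]; exact hP)
      obtain ⟨Q₀, hQ₀⟩ := K666.Ext.exists_over (K' := K) hK₀ P
      constructor
      · intro hall
        exact (local_pole hK₀ hdeg hy heq hQ₀ hP hoddP _ a b).1 (hall Q₀ hQ₀)
      · intro hab Q hQ
        exact (local_pole hK₀ hdeg hy heq hQ hP hoddP _ a b).2 hab
    · rw [sub_zero]
      refine local_nonpole hK₀ hdeg hy heq σ hσ ?_ (E P) a b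
      by_contra hcon
      rw [not_le, one_lt_val_iff] at hcon
      exact hP hcon
  rw [K660.Compare.mem_L, K660.Compare.mem_L, K660.Compare.mem_L, ← forall_and,
    ← forall_congr' hloc]
  constructor
  · intro hall P Q hQ
    rw [← K662.Conorm.conorm_apply hG E hQ]
    exact hall Q
  · intro hall Q
    obtain ⟨P, hP⟩ := exists_below (K := K₀) Q
    rw [K662.Conorm.conorm_apply hG E hP]
    exact hall P Q hP

theorem ell_conorm (σ : K ≃ₐ[K₀] K) (hσ : σ y = y + 1) (E : Divisor k K₀) :
    ell (conorm K E) = ell E + ell (E - FDiv f) := by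
  have h1 := K660.Compare.finite_L hK₀ E
  have h2 := K660.Compare.finite_L hK₀ (E - FDiv f)
  have hmem := mem_L_conorm_iff hK₀ hdeg hy heq hodd σ hσ E
  let φ : (L E × L (E - FDiv f)) →ₗ[k] L (conorm K E) :=
    { toFun := fun p => ⟨algebraMap K₀ K p.1 + algebraMap K₀ K p.2 * y,
        (hmem _ _).2 ⟨p.1.2, p.2.2⟩⟩
      map_add' := fun p q => Subtype.ext (by
        simp only [Prod.fst_add, Prod.snd_add, Submodule.coe_add, map_add]
        ring)
      map_smul' := fun c p => Subtype.ext (by
        simp only [Prod.smul_fst, Prod.smul_snd, Submodule.coe_smul, Algebra.smul_def, map_mul,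
          RingHom.id_apply, ← IsScalarTower.algebraMap_apply k K₀ K]
        ring) }
  have hφ : Function.Bijective φ := by
    constructor
    · rw [injective_iff_map_eq_zero]
      rintro ⟨a, b⟩ hab
      obtain ⟨h3, h4⟩ := eq_zero_of_comb hy (congrArg Subtype.val hab)
      exact Prod.ext (Subtype.ext h3) (Subtype.ext h4)
    · rintro ⟨z, hz⟩
      obtain ⟨a, b, rfl⟩ := exists_comb hdeg hy z
      obtain ⟨ha, hb⟩ := (hmem a b).1 hz
      exact ⟨⟨⟨a, ha⟩, ⟨b, hb⟩⟩, rfl⟩
  have h3 := (LinearEquiv.ofBijective φ hφ).finrank_eq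
  rw [Module.finrank_prod] at h3
  exact h3.symm

/-- The genus of an Artin-Schreier extension. -/
theorem genus_eq (hK : IsFunctionField k K) (σ : K ≃ₐ[K₀] K) (hσ : σ y = y + 1) :
    (genus k K : ℤ) = 2 * genus k K₀ - 1 + (FDiv (k := k) f).deg := by
  have hfin : FiniteDimensional K₀ K := Module.finite_of_finrank_eq_succ hdeg
  obtain ⟨N₀, hN₀, h₀⟩ := K660.Compare.riemann hK₀
  obtain ⟨N, hN, h⟩ := K660.Compare.riemann hK
  obtain ⟨E, -, hE⟩ := K660.Compare.exists_deg_ge hK₀ (N₀ + N + |(FDiv (k := k) f).deg|)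
  have habs := le_abs_self (FDiv (k := k) f).deg
  have habs0 := abs_nonneg (FDiv (k := k) f).deg
  have h1 := K662.Conorm.deg_conorm (K' := K) (exists_isGen hK₀) E
  rw [hdeg] at h1
  have h2 := h (conorm K E) (by rw [h1]; push_cast; linarith)
  have h3 := h₀ E (by linarith)
  have h4 := h₀ (E - FDiv f) (by rw [K660.Compare.deg_sub]; linarith)
  rw [ell_conorm hK₀ hdeg hy heq hodd σ hσ E, h1] at h2
  rw [K660.Compare.deg_sub] at h4
  push_cast at h2
  linarith

end Global

section Aut

/-- The nontrivial automorphism in characteristic two. -/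
theorem exists_aut {K₀ K : Type*} [Field K₀] [Field K] [Algebra K₀ K] [CharP K₀ 2]
    (hdeg : Module.finrank K₀ K = 2) {y : K} (hy : y ∉ Set.range (algebraMap K₀ K)) {f : K₀}
    (heq : y ^ 2 + y = algebraMap K₀ K f) : ∃ σ : K ≃ₐ[K₀] K, σ y = y + 1 := by
  have hfin : FiniteDimensional K₀ K := Module.finite_of_finrank_eq_succ hdeg
  have hcharK : CharP K 2 := charP_of_injective_algebraMap (algebraMap K₀ K).injective 2
  have hsepy : IsSeparable K₀ y := by
    have h1 : (Polynomial.X ^ 2 + Polynomial.X - Polynomial.C f : Polynomial K₀).Separable := by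
      have h2 : Polynomial.derivative
          (Polynomial.X ^ 2 + Polynomial.X - Polynomial.C f : Polynomial K₀) = 1 := by
        have h3 : (2 : Polynomial K₀) = 0 := CharTwo.two_eq_zero
        simp
        exact one_add_one_eq_two.trans h3
      rw [Polynomial.Separable, h2]
      exact isCoprime_one_right
    exact h1.of_dvd (minpoly.dvd K₀ y (by simp [heq]))
  have hsep : Algebra.IsSeparable K₀ K := by
    refine ⟨fun z => ?_⟩
    have h1 := (IntermediateField.isSeparable_adjoin_simple_iff_isSeparable K₀ K).2 hsepy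
    have hz : z ∈ IntermediateField.adjoin K₀ ({y} : Set K) := by
      rw [K666.Quad.adjoin_eq_top_of_finrank_two hdeg y hy]
      exact IntermediateField.mem_top
    have h2 := h1.isSeparable' (⟨z, hz⟩ : IntermediateField.adjoin K₀ ({y} : Set K))
    rw [IsSeparable] at h2 ⊢
    have h3 : minpoly K₀ (⟨z, hz⟩ : IntermediateField.adjoin K₀ ({y} : Set K)) = minpoly K₀ z :=
      (minpoly.algebraMap_eq (algebraMap (IntermediateField.adjoin K₀ ({y} : Set K)) K).injective _).symm
    rwa [h3] at h2
  obtain ⟨σ, hσ⟩ := K666.QuadPl.exists_aut hdeg y hy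
  refine ⟨σ, ?_⟩
  have h1 : (σ y) ^ 2 + σ y = y ^ 2 + y := by
    rw [← map_pow, ← map_add, heq, AlgEquiv.commutes]
  have h2 : (σ y - y) * (σ y - y + 1) = 0 := by
    have h3 : (2 : K) = 0 := CharTwo.two_eq_zero
    linear_combination h1 + (-(σ y) * y + y ^ 2) * h3
  rcases mul_eq_zero.1 h2 with h3 | h3
  · exact absurd (sub_eq_zero.1 h3) hσ
  · have h4 : (2 : K) = 0 := CharTwo.two_eq_zero
    linear_combination h3 - h4

/-- The rational function field has genus zero. -/
theorem genus_ratFunc {k : Type*} [Field k] : genus k (RatFunc k) = 0 := by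
  classical
  have hK₀ := K666.RatPl.isFunctionField (k := k)
  have hX : (RatFunc.X : RatFunc k) ∉ Set.range (algebraMap k (RatFunc k)) := by
    rintro ⟨c, hc⟩
    exact K666.RatPl.transcendental_X (k := k) (by rw [← hc]; exact isAlgebraic_algebraMap c)
  obtain ⟨P, hP⟩ := exists_pole hK₀ hX
  refine K660.LowGenus.genus_eq_zero_of_mem_L_single hK₀ (K666.RatPl.inf_deg P hP) ?_ hX
  intro Q
  by_cases hQ : Q = P
  · subst hQ
    rw [Finsupp.single_eq_same, K666.RatPl.inf_val_X Q hP]
  · rw [Finsupp.single_eq_of_ne hQ, exp_zero]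
    by_contra hcon
    rw [not_le] at hcon
    apply hQ
    refine place_ext fun x => ?_
    by_cases hx : x = 0
    · simp [hx]
    · rw [K666.RatPl.inf_val Q hcon x hx, K666.RatPl.inf_val P hP x hx]

end Aut

end K662.ASGenus
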