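import Groth.Agent.FunFld.K660.Places
import Groth.Agent.FunFld.K661.Place
import Mathlib.RingTheory.Kaehler.Basic
import Mathlib.RingTheory.Derivation.Basic
import Mathlib.Algebra.Polynomial.Identities
import Mathlib.FieldTheory.Separable
import Mathlib.RingTheory.FiniteType

/-!
# The differential of a uniformizer at a place with separable residue field

A `k`-derivation `D : K → K` is bounded at every place `P` (`exists_bound`). If `P` has residue field separable over
`k` and `D t = 0` for a uniformizer `t`, then `D = 0` (`eq_zero_of_uniformizer`).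
-/

set_option autoImplicit false
open WithZero FunFld K661.Place K660.Places IsDedekindDomain Polynomial

namespace K662.DiffUnif

variable {k K : Type*} [Field k] [Field K] [Algebra k K]

/-- The elements of `O_P` with derivative in `P ^ (-N)`. -/
def bdd (D : Derivation k K K) (P : Place k K) (N : ℤ) : Subalgebra k K where
  carrier := {x | P.1 x ≤ 1 ∧ P.1 (D x) ≤ exp N}
  mul_mem' {a b} ha hb := by
    refine ⟨?_, ?_⟩
    · rw [map_mul]
      exact mul_le_one' ha.1 hb.1
    · rw [Derivation.leibniz, smul_eq_mul, smul_eq_mul]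
      refine (P.1.map_add _ _).trans (max_le ?_ ?_)
      · rw [map_mul]
        exact (mul_le_mul' ha.1 hb.2).trans_eq (one_mul _)
      · rw [map_mul]
        exact (mul_le_mul' hb.1 ha.2).trans_eq (one_mul _)
  add_mem' {a b} ha hb := by
    refine ⟨(P.1.map_add _ _).trans (max_le ha.1 hb.1), ?_⟩
    rw [map_add]
    exact (P.1.map_add _ _).trans (max_le ha.2 hb.2)
  algebraMap_mem' c := ⟨P.2.1 c, by rw [Derivation.map_algebraMap, map_zero]; exact zero_le⟩

theorem mem_bdd {D : Derivation k K K} {P : Place k K} {N : ℤ} {x : K} :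
    x ∈ bdd D P N ↔ P.1 x ≤ 1 ∧ P.1 (D x) ≤ exp N := Iff.rfl

theorem bdd_mono {D : Derivation k K K} {P : Place k K} {M N : ℤ} (h : M ≤ N) :
    bdd D P M ≤ bdd D P N := fun _ hx => ⟨hx.1, hx.2.trans (exp_le_exp.2 h)⟩

theorem exists_mem_bdd (D : Derivation k K K) (P : Place k K) {x : K} (hx : P.1 x ≤ 1) :
    ∃ N : ℤ, x ∈ bdd D P N := by
  by_cases h : D x = 0
  · exact ⟨0, hx, by rw [h, map_zero]; exact zero_le⟩
  · exact ⟨-(P.ord (D x)), hx, (val_eq_exp P h).le⟩

theorem exists_le_bdd (D : Derivation k K K) (P : Place k K) (A : Subalgebra k K)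
    (hA : A.FG) (hAP : ∀ x ∈ A, P.1 x ≤ 1) : ∃ N : ℤ, A ≤ bdd D P N := by
  classical
  obtain ⟨s, hs⟩ := hA
  have hmem : ∀ x ∈ s, x ∈ A := fun x hx => by
    rw [← hs]
    exact Algebra.subset_adjoin hx
  choose! N hN using fun (x : K) (hx : x ∈ s) => exists_mem_bdd D P (hAP x (hmem x hx))
  obtain ⟨M, hM⟩ : ∃ M : ℤ, ∀ x ∈ s, N x ≤ M := by
    refine ⟨∑ x ∈ s, |N x|, fun x hx => ?_⟩
    exact (le_abs_self _).trans (Finset.single_le_sum (f := fun x => |N x|)
      (fun y _ => abs_nonneg _) hx)
  refine ⟨M, ?_⟩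
  rw [← hs, Algebra.adjoin_le_iff]
  exact fun x hx => bdd_mono (hM x hx) (hN x hx)

/-- A derivation is bounded on `O_P`. -/
theorem exists_bound (hG : ∃ t : K, IsGen k K t) (D : Derivation k K K) (P : Place k K) :
    ∃ N : ℤ, ∀ x : K, P.1 x ≤ 1 → P.1 (D x) ≤ exp N := by
  obtain ⟨s, hs, hPs⟩ : ∃ s : K, IsGen k K s ∧ P.1 s ≤ 1 := by
    obtain ⟨s, hs⟩ := hG
    rcases le_or_inv_le P s with h | h
    · exact ⟨s, hs, h⟩
    · exact ⟨s⁻¹, hs.inv, h⟩
  have hF : Fact (IsGen k K s) := ⟨hs⟩
  have := instDed (k := k) (K := K) (t := s)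
  have := instFrac (k := k) (K := K) (t := s)
  obtain ⟨p, hp⟩ := exists_ofPrime_eq (t := s) P hPs
  let B := integralClosure (Algebra.adjoin k {s}) K
  let B' : Subalgebra k K := B.restrictScalars k
  have hfin : Module.Finite (Algebra.adjoin k {s}) B := K660.Ded.finite_integralClosure hs.tr hs.fin
  have hBfg : B'.FG := by
    have h1 : Algebra.FiniteType k (Algebra.adjoin k {s}) :=
      (Subalgebra.fg_iff_finiteType _).1 ⟨{s}, by simp⟩
    have h2 : Algebra.FiniteType (Algebra.adjoin k {s}) B := inferInstance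
    have h3 : Algebra.FiniteType k B := Algebra.FiniteType.trans h1 h2
    exact (Subalgebra.fg_iff_finiteType _).2 h3
  have hBP : ∀ x ∈ B', P.1 x ≤ 1 := by
    intro x hx
    exact val_le_one_of_isIntegral P (val_adjoin_le P hPs) (x := x) hx
  obtain ⟨N, hN⟩ := exists_le_bdd D P B' hBfg hBP
  refine ⟨N, fun x hx => ?_⟩
  rw [← hp] at hx
  obtain ⟨n, d, hnd⟩ := HeightOneSpectrum.exists_primeCompl_mul_eq_of_integer p x hx
  have hd1 : P.1 (algebraMap B K d) = 1 := by
    rw [← hp, ofPrime_val, p.valuation_of_algebraMap]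
    exact (p.intValuation_eq_one_iff_mem_primeCompl _).2 d.2
  have h1 : D x * algebraMap B K d = D (algebraMap B K n) - x * D (algebraMap B K d) := by
    rw [← hnd, Derivation.leibniz, smul_eq_mul, smul_eq_mul]
    ring
  have h2 : P.1 (D x) = P.1 (D x * algebraMap B K d) := by rw [map_mul, hd1, mul_one]
  rw [h2, h1]
  refine (P.1.map_sub _ _).trans (max_le (hN n.2).2 ?_)
  rw [map_mul]
  have h3 : P.1 x ≤ 1 := by
    rw [← hp]
    exact hx
  exact (mul_le_mul' h3 (hN d.1.2).2).trans_eq (one_mul _)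

/-- One step: if `D t = 0` the bound improves. -/
theorem bound_step (D : Derivation k K K) (P : Place k K)
    [Algebra.IsSeparable k (IsLocalRing.ResidueField P.O)] {t : K} (ht : P.1 t = exp (-1 : ℤ))
    (hDt : D t = 0) {N : ℤ} (hN : ∀ x : K, P.1 x ≤ 1 → P.1 (D x) ≤ exp N) :
    ∀ x : K, P.1 x ≤ 1 → P.1 (D x) ≤ exp (N - 1) := by
  have ht0 : t ≠ 0 := by
    rintro rfl
    rw [map_zero] at ht
    exact exp_ne_zero ht.symm
  have hm : ∀ y : K, P.1 y < 1 → P.1 (D y) ≤ exp (N - 1) := by
    intro y hy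
    rw [val_lt_one_iff_le] at hy
    have h1 : P.1 (t⁻¹ * y) ≤ 1 := by
      rw [map_mul, map_inv₀, ht, ← exp_neg]
      calc exp (-(-1 : ℤ)) * P.1 y ≤ exp (-(-1 : ℤ)) * exp (-1 : ℤ) := by gcongr
        _ = 1 := by rw [← exp_add, ← exp_zero]; congr 1
    have h2 : y = t * (t⁻¹ * y) := by rw [mul_inv_cancel_left₀ ht0]
    rw [h2, Derivation.leibniz, hDt, smul_zero, add_zero, smul_eq_mul, map_mul, ht]
    calc exp (-1 : ℤ) * P.1 (D (t⁻¹ * y)) ≤ exp (-1 : ℤ) * exp N := by
          have := hN _ h1
          gcongr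
      _ = exp (N - 1) := by
          rw [← exp_add]
          congr 1
          ring
  intro x hx
  let x' : P.O := ⟨x, hx⟩
  let xb : IsLocalRing.ResidueField P.O := IsLocalRing.residue P.O x'
  have hsep : (minpoly k xb).Separable := Algebra.IsSeparable.isSeparable k xb
  let f := minpoly k xb
  have hres : ∀ g : Polynomial k, IsLocalRing.residue P.O ((g.map (algebraMap k P.O)).eval x') =
      Polynomial.aeval xb g := by
    intro g
    rw [Polynomial.eval_map, Polynomial.hom_eval₂]
    rfl
  have hcoe : ∀ (g : Polynomial k), (((g.map (algebraMap k P.O)).eval x' : P.O) : K) =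
      Polynomial.aeval x g := by
    intro g
    rw [Polynomial.eval_map]
    change P.O.subtype _ = _
    rw [Polynomial.hom_eval₂]
    rfl
  have h1 : P.1 (Polynomial.aeval x f) < 1 := by
    have h2 : IsLocalRing.residue P.O ((f.map (algebraMap k P.O)).eval x') = 0 := by
      rw [hres]
      exact minpoly.aeval k xb
    rw [IsLocalRing.residue_eq_zero_iff, mem_maximalIdeal_iff, hcoe] at h2
    exact h2
  have h3 : P.1 (Polynomial.aeval x (derivative f)) = 1 := by
    have h2 : IsLocalRing.residue P.O (((derivative f).map (algebraMap k P.O)).eval x') ≠ 0 := by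
      rw [hres]
      exact hsep.aeval_derivative_ne_zero (minpoly.aeval k xb)
    rw [Ne, IsLocalRing.residue_eq_zero_iff, mem_maximalIdeal_iff, hcoe, not_lt] at h2
    refine le_antisymm ?_ h2
    have h4 := (((derivative f).map (algebraMap k P.O)).eval x').2
    rw [K661.Place.mem_O, hcoe] at h4
    exact h4
  have h5 : D (aeval x f) = aeval x (derivative f) * D x := by
    rw [Derivation.map_aeval, smul_eq_mul]
  have h6 : P.1 (D x) = P.1 (D (aeval x f)) := by rw [h5, map_mul, h3, one_mul]
  rw [h6]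
  exact hm _ h1

/-- A derivation killing a uniformizer at a place with separable residue field is zero. -/
theorem eq_zero_of_uniformizer (hG : ∃ t : K, IsGen k K t) (D : Derivation k K K) (P : Place k K)
    [Algebra.IsSeparable k (IsLocalRing.ResidueField P.O)] {t : K} (ht : P.1 t = exp (-1 : ℤ))
    (hDt : D t = 0) : D = 0 := by
  obtain ⟨N, hN⟩ := exists_bound hG D P
  have hall : ∀ (n : ℕ) (x : K), P.1 x ≤ 1 → P.1 (D x) ≤ exp (N - n) := by
    intro n
    induction n with
    | zero => simpa using hN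
    | succ n ih =>
      have := bound_step D P ht hDt ih
      intro x hx
      convert this x hx using 2
      push_cast
      ring
  have hO : ∀ x : K, P.1 x ≤ 1 → D x = 0 := by
    intro x hx
    by_contra h0
    have h1 := hall (N + 1 + P.ord (D x)).toNat x hx
    rw [val_eq_exp P h0, exp_le_exp] at h1
    have h2 := Int.self_le_toNat (N + 1 + P.ord (D x))
    omega
  ext x
  rcases le_or_inv_le P x with h | h
  · exact hO x h
  · by_cases hx : x = 0
    · rw [hx, map_zero]
      rfl
    · have h1 : D (x * x⁻¹) = 0 := by rw [mul_inv_cancel₀ hx, Derivation.map_one_eq_zero]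
      rw [Derivation.leibniz, hO _ h, smul_zero, zero_add, smul_eq_mul, mul_eq_zero] at h1
      rcases h1 with h1 | h1
      · exact absurd (inv_eq_zero.1 h1) hx
      · rw [h1]
        rfl

end K662.DiffUnif
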