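import Groth.Agent.FunFld.K661.Galois
import Groth.Agent.FunFld.K661.OverFF
import Groth.Agent.FunFld.K660.Compare
import Mathlib.RingTheory.Valuation.RamificationGroup
import Mathlib.FieldTheory.Galois.Basic
import Mathlib.GroupTheory.GroupAction.Quotient

/-!
# Decomposition groups of places

`K'/K` finite Galois, `K` finite over `k(t)` (`IsGen`); the constant fields may be bigger than `k`.
* `mem_decomp_iff`, `mem_inertia_iff`;
* `card_over_mul_card_decomp`: `r |G₀| = [K' : K]`;
* `deg_eq_of_isOver`: conjugate places have the same degree;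
* `card_decomp_mul_deg`: `|G₀| deg P = e deg Q`.
-/

set_option autoImplicit false
set_option linter.unusedSectionVars false
open WithZero FunFld K661.Place K661.Galois K660.Places
open scoped Pointwise

namespace K662.Galois

variable {k K K' : Type*} [Field k] [Field K] [Field K'] [Algebra k K] [Algebra K K']
  [Algebra k K'] [IsScalarTower k K K']

theorem comapEquiv_O (Q : Place k K') (σ : K' ≃ₐ[K] K') : (comapEquiv Q σ).O = σ⁻¹ • Q.O := by
  ext x
  rw [ValuationSubring.mem_inv_pointwise_smul_iff]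
  exact Iff.rfl

theorem comapEquiv_eq_iff {Q : Place k K'} {σ : K' ≃ₐ[K] K'} :
    comapEquiv Q σ = Q ↔ ∀ x, Q.1 (σ x) = Q.1 x := by
  constructor
  · intro h x
    rw [← comapEquiv_val, h]
  · intro h
    refine ext_le fun x => ?_
    rw [comapEquiv_val, h]

theorem mem_decomp_iff_comapEquiv {Q : Place k K'} {σ : K' ≃ₐ[K] K'} :
    σ ∈ (Q.O).decompositionSubgroup K ↔ comapEquiv Q σ = Q := by
  rw [MulAction.mem_stabilizer_iff]
  constructor
  · intro h
    refine ext_O ?_
    rw [comapEquiv_O, inv_smul_eq_iff, h]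
  · intro h
    have h1 := comapEquiv_O Q σ
    rw [h, eq_inv_smul_iff] at h1
    exact h1

theorem mem_decomp_iff {Q : Place k K'} {σ : K' ≃ₐ[K] K'} :
    σ ∈ (Q.O).decompositionSubgroup K ↔ ∀ x, Q.1 (σ x) = Q.1 x :=
  mem_decomp_iff_comapEquiv.trans comapEquiv_eq_iff

theorem residue_smul_eq_iff {Q : Place k K'} (σ : (Q.O).decompositionSubgroup K) (x : Q.O) :
    σ • (IsLocalRing.residue Q.O x) = IsLocalRing.residue Q.O x ↔ Q.1 (σ.1 (x : K') - x) < 1 := by
  rw [← IsLocalRing.ResidueField.residue_smul, ← sub_eq_zero, ← map_sub,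
    IsLocalRing.residue_eq_zero_iff, mem_maximalIdeal_iff]
  rfl

theorem mem_inertia_iff {Q : Place k K'} {σ : (Q.O).decompositionSubgroup K} :
    σ ∈ (Q.O).inertiaSubgroup K ↔ ∀ x : K', Q.1 x ≤ 1 → Q.1 (σ.1 x - x) < 1 := by
  unfold ValuationSubring.inertiaSubgroup
  rw [MonoidHom.mem_ker]
  constructor
  · intro h x hx
    have h1 := DFunLike.congr_fun h (IsLocalRing.residue Q.O ⟨x, hx⟩)
    exact (residue_smul_eq_iff σ ⟨x, hx⟩).1 h1
  · intro h
    refine RingEquiv.ext fun z => ?_
    obtain ⟨x, rfl⟩ := IsLocalRing.residue_surjective z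
    exact (residue_smul_eq_iff σ x).2 (h x x.2)

/-- Conjugate places have the same degree. -/
theorem deg_comapEquiv (Q : Place k K') (σ : K' ≃ₐ[K] K') : (comapEquiv Q σ).deg = Q.deg := by
  let e : (comapEquiv Q σ).O ≃+* Q.O :=
    { toFun := fun x => ⟨σ x, x.2⟩
      invFun := fun x => ⟨σ.symm x, by
        rw [K661.Place.mem_O, comapEquiv_val, AlgEquiv.apply_symm_apply]
        exact x.2⟩
      left_inv := fun x => Subtype.ext (σ.symm_apply_apply _)
      right_inv := fun x => Subtype.ext (σ.apply_symm_apply _)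
      map_mul' := fun x y => Subtype.ext (map_mul σ _ _)
      map_add' := fun x y => Subtype.ext (map_add σ _ _) }
  let e' := IsLocalRing.ResidueField.mapEquiv e
  let l : IsLocalRing.ResidueField (comapEquiv Q σ).O ≃ₗ[k] IsLocalRing.ResidueField Q.O :=
    { e' with
      map_smul' := fun c x => by
        obtain ⟨y, rfl⟩ := IsLocalRing.residue_surjective x
        have h1 : c • IsLocalRing.residue (comapEquiv Q σ).O y =
            IsLocalRing.residue (comapEquiv Q σ).O (algebraMap k _ c * y) := by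
          rw [map_mul]
          exact Algebra.smul_def c _
        have h2 : ∀ z : Q.O, c • IsLocalRing.residue Q.O z =
            IsLocalRing.residue Q.O (algebraMap k _ c * z) := by
          intro z
          rw [map_mul]
          exact Algebra.smul_def c _
        have h3 : ∀ z, e' (IsLocalRing.residue (comapEquiv Q σ).O z) =
            IsLocalRing.residue Q.O (e z) := fun z => rfl
        change e' (c • IsLocalRing.residue (comapEquiv Q σ).O y) =
          c • e' (IsLocalRing.residue (comapEquiv Q σ).O y)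
        rw [h1, h3, h3, h2, map_mul]
        congr 2
        refine Subtype.ext ?_
        change σ (algebraMap k K' c) = algebraMap k K' c
        rw [IsScalarTower.algebraMap_apply k K K', AlgEquiv.commutes] }
  exact l.finrank_eq

variable [FiniteDimensional K K'] [IsGalois K K']

theorem deg_eq_of_isOver {Q Q' : Place k K'} {P : Place k K} (h : IsOver Q P) (h' : IsOver Q' P) :
    Q'.deg = Q.deg := by
  obtain ⟨σ, rfl⟩ := exists_comapEquiv_eq h h'
  exact deg_comapEquiv Q σ

theorem isOverWith_of_isOver {Q Q' : Place k K'} {P : Place k K} {e : ℕ} (h : IsOverWith Q P e)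
    (h' : IsOver Q' P) : IsOverWith Q' P e := by
  obtain ⟨σ, rfl⟩ := exists_comapEquiv_eq ⟨e, h⟩ h'
  exact isOverWith_comapEquiv σ h

/-- `r |G₀| = [K' : K]`. -/
theorem card_over_mul_card_decomp {Q : Place k K'} {P : Place k K} (h : IsOver Q P) :
    Nat.card {Q' : Place k K' // IsOver Q' P} * Nat.card ((Q.O).decompositionSubgroup K) =
      Module.finrank K K' := by
  let e : {Q' : Place k K' // IsOver Q' P} ≃ MulAction.orbit (K' ≃ₐ[K] K') Q.O :=
    Equiv.ofBijective (fun Q' => ⟨Q'.1.O, by
      obtain ⟨σ, hσ⟩ := exists_comapEquiv_eq h Q'.2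
      exact ⟨σ⁻¹, by rw [← hσ, comapEquiv_O]⟩⟩) ⟨fun Q₁ Q₂ h12 => by
        have h3 := congrArg Subtype.val h12
        exact Subtype.ext (ext_O h3), fun V => by
        obtain ⟨V, σ, rfl⟩ := V
        refine ⟨⟨comapEquiv Q σ⁻¹, isOver_comapEquiv _ h⟩, Subtype.ext ?_⟩
        change (comapEquiv Q σ⁻¹).O = σ • Q.O
        rw [comapEquiv_O, inv_inv]⟩
  rw [Nat.card_congr e, ← Nat.card_prod,
    Nat.card_congr (MulAction.orbitProdStabilizerEquivGroup (K' ≃ₐ[K] K') Q.O),
    IsGalois.card_aut_eq_finrank]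

/-- `|G₀| deg P = e deg Q`. -/
theorem card_decomp_mul_deg (hG : ∃ t : K, IsGen k K t) {Q : Place k K'} {P : Place k K} {e : ℕ}
    (he : IsOverWith Q P e) :
    Nat.card ((Q.O).decompositionSubgroup K) * P.deg = e * Q.deg := by
  classical
  have h : IsOver Q P := ⟨e, he⟩
  have hfin := K661.OverFF.finite_over (K' := K') hG P
  have h1 := K661.OverFF.sum_ramIdx_mul_deg (K' := K') hG P hfin.toFinset (fun Q => by simp)
  have h2 : ∀ Q' ∈ hfin.toFinset, ramIdx Q' P * Q'.deg = e * Q.deg := by
    intro Q' hQ'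
    have h3 : IsOver Q' P := by simpa using hQ'
    rw [ramIdx_eq (isOverWith_of_isOver he h3), deg_eq_of_isOver h h3]
  rw [Finset.sum_congr rfl h2, Finset.sum_const, smul_eq_mul,
    ← card_over_mul_card_decomp h] at h1
  have h4 : Nat.card {Q' : Place k K' // IsOver Q' P} = hfin.toFinset.card := by
    rw [← Set.ncard_eq_toFinset_card _ hfin]
    rfl
  have h5 : 0 < hfin.toFinset.card := Finset.card_pos.2 ⟨Q, by simpa using h⟩
  rw [h4, mul_assoc] at h1
  exact (Nat.eq_of_mul_eq_mul_left h5 h1).symm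

end K662.Galois
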