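import Groth.Agent.FunFld.K661.OverFF
import Groth.Agent.FunFld.K661.Place
import Mathlib.FieldTheory.PrimitiveElement
import Mathlib.FieldTheory.Minpoly.Field
import Mathlib.RingTheory.Polynomial.Basic

/-!
# Almost all places are unramified in a finite separable extension

`surjective_of_simple_root`: if `y` generates `K'/K`, its minimal polynomial `f` has coefficients integral at `Q`,
`Q y ≤ 1` and `Q (f' y) = 1`, then `e(Q | P) = 1`.
-/

set_option autoImplicit false
set_option linter.unusedSectionVars false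
open WithZero FunFld K661.Place Polynomial

namespace K662.Unram

variable {k K K' : Type*} [Field k] [Field K] [Field K'] [Algebra k K] [Algebra K K']
  [Algebra k K'] [IsScalarTower k K K'] [FiniteDimensional K K']

section

variable {Q : Place k K'} {P : Place k K} (h : IsOver Q P)

/-- The map `O_P → O_Q`. -/
noncomputable def ιO : P.O →+* Q.O :=
  ((algebraMap K K').comp P.O.subtype).codRestrict Q.O.toSubring
    fun x => (val_algebraMap_le_one_iff h x.1).2 x.2

theorem ιO_coe (x : P.O) : ((ιO h x : Q.O) : K') = algebraMap K K' (x : K) := rfl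

/-- The map on residue fields. -/
noncomputable def ιF : IsLocalRing.ResidueField P.O →+* IsLocalRing.ResidueField Q.O :=
  Ideal.Quotient.lift _ ((IsLocalRing.residue Q.O).comp (ιO h)) (by
    intro a ha
    have h1 : P.1 (a : K) < 1 := mem_maximalIdeal_iff.1 ha
    rw [RingHom.comp_apply, IsLocalRing.residue_eq_zero_iff, mem_maximalIdeal_iff]
    exact (val_algebraMap_lt_one_iff h _).2 h1)

theorem ιF_residue (x : P.O) : ιF h (IsLocalRing.residue P.O x) = IsLocalRing.residue Q.O (ιO h x) :=
  rfl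

theorem ιF_comp : (ιF h).comp (IsLocalRing.residue P.O) = (IsLocalRing.residue Q.O).comp (ιO h) :=
  rfl

/-- Evaluation at `y`. -/
noncomputable def ev (y : Q.O) : (P.O)[X] →+* Q.O := eval₂RingHom (ιO h) y

theorem residue_ev (y : Q.O) (A : (P.O)[X]) : IsLocalRing.residue Q.O (ev h y A) =
    (A.map (IsLocalRing.residue P.O)).eval₂ (ιF h) (IsLocalRing.residue Q.O y) := by
  rw [ev, coe_eval₂RingHom, hom_eval₂, eval₂_map, ιF_comp]

theorem ev_C (y : Q.O) (a : P.O) : ev h y (C a) = ιO h a := by
  rw [ev, coe_eval₂RingHom, eval₂_C]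

/-- A polynomial vanishing in the residue field is divisible by a uniformizer. -/
theorem exists_eq_C_mul {π : P.O} (hπ : P.1 (π : K) = exp (-1 : ℤ)) {A : (P.O)[X]}
    (hA : A.map (IsLocalRing.residue P.O) = 0) : ∃ B : (P.O)[X], A = C π * B := by
  have h1 : C π ∣ A := by
    rw [C_dvd_iff_dvd_coeff]
    intro n
    have h2 := congrArg (fun q => q.coeff n) hA
    simp only [coeff_map, coeff_zero] at h2
    rw [IsLocalRing.residue_eq_zero_iff, mem_maximalIdeal_iff, val_lt_one_iff_le] at h2
    have hπ0 : (π : K) ≠ 0 := by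
      intro h0
      rw [h0, map_zero] at hπ
      exact exp_ne_zero hπ.symm
    refine ⟨⟨(π : K)⁻¹ * (A.coeff n : K), ?_⟩, Subtype.ext ?_⟩
    · rw [mem_O, map_mul, map_inv₀, hπ, ← exp_neg]
      calc exp (-(-1 : ℤ)) * P.1 (A.coeff n : K) ≤ exp (-(-1 : ℤ)) * exp (-1 : ℤ) := by gcongr
        _ = 1 := by rw [← exp_add, ← exp_zero]; congr 1
    · change _ = (π : K) * ((π : K)⁻¹ * (A.coeff n : K))
      rw [mul_inv_cancel_left₀ hπ0]
  exact h1

end

/-- The criterion. -/
theorem ramIdx_eq_one_of_simple_root {Q : Place k K'} {P : Place k K} (h : IsOver Q P) (y : Q.O)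
    (hgen : IntermediateField.adjoin K {(y : K')} = ⊤)
    (F : (P.O)[X]) (hFm : F.Monic) (hF : ev h y F = 0)
    (hF' : IsLocalRing.residue Q.O (ev h y (derivative F)) ≠ 0) : ramIdx Q P = 1 := by
  classical
  obtain ⟨π₀, hπ₀⟩ := exists_unif P
  let π : P.O := ⟨π₀, by rw [mem_O, hπ₀, ← exp_zero, exp_le_exp]; omega⟩
  have hπ : P.1 (π : K) = exp (-1 : ℤ) := hπ₀
  -- reduction
  let yb := IsLocalRing.residue Q.O y
  let _ : Algebra (IsLocalRing.ResidueField P.O) (IsLocalRing.ResidueField Q.O) := (ιF h).toAlgebra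
  have haev : ∀ g : (IsLocalRing.ResidueField P.O)[X], aeval yb g = g.eval₂ (ιF h) yb := fun g => rfl
  have hFb : aeval yb (F.map (IsLocalRing.residue P.O)) = 0 := by
    rw [haev, ← residue_ev, hF, map_zero]
  have hint : IsIntegral (IsLocalRing.ResidueField P.O) yb := ⟨_, hFm.map _, hFb⟩
  let gb := minpoly (IsLocalRing.ResidueField P.O) yb
  obtain ⟨hb, hhb⟩ : gb ∣ F.map (IsLocalRing.residue P.O) := minpoly.dvd _ _ hFb
  obtain ⟨G, hG⟩ := Polynomial.map_surjective _ (IsLocalRing.residue_surjective (R := P.O)) gb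
  obtain ⟨H, hH⟩ := Polynomial.map_surjective _ (IsLocalRing.residue_surjective (R := P.O)) hb
  have hHu : IsLocalRing.residue Q.O (ev h y H) ≠ 0 := by
    rw [residue_ev, hH]
    intro h0
    apply hF'
    rw [residue_ev, ← derivative_map, hhb, derivative_mul, eval₂_add, eval₂_mul, eval₂_mul, h0,
      mul_zero, zero_add]
    have : gb.eval₂ (ιF h) (IsLocalRing.residue Q.O y) = 0 := minpoly.aeval _ yb
    rw [this, zero_mul]
  have hHu1 : Q.1 (ev h y H : K') = 1 := by
    rw [Ne, IsLocalRing.residue_eq_zero_iff, mem_maximalIdeal_iff, not_lt] at hHu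
    exact le_antisymm (ev h y H).2 hHu
  obtain ⟨R, hR⟩ := exists_eq_C_mul hπ (A := F - G * H) (by
    rw [Polynomial.map_sub, Polynomial.map_mul, hG, hH, hhb, sub_self])
  have hGH : ev h y G * ev h y H = -(ιO h π * ev h y R) := by
    have h1 := congrArg (ev h y) hR
    rw [map_sub, map_mul, map_mul, hF, ev_C] at h1
    rw [← h1]
    ring
  -- the descent step
  have hstep : ∀ A : (P.O)[X], Q.1 (ev h y A : K') < 1 → ∃ B : (P.O)[X],
      Q.1 (ev h y A : K') = Q.1 (algebraMap K K' (π : K)) * Q.1 (ev h y B : K') := by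
    intro A hA
    have h1 : aeval yb (A.map (IsLocalRing.residue P.O)) = 0 := by
      rw [haev, ← residue_ev, IsLocalRing.residue_eq_zero_iff, mem_maximalIdeal_iff]
      exact hA
    obtain ⟨bb, hbb⟩ : gb ∣ A.map (IsLocalRing.residue P.O) := minpoly.dvd _ _ h1
    obtain ⟨B₀, hB₀⟩ := Polynomial.map_surjective _ (IsLocalRing.residue_surjective (R := P.O)) bb
    obtain ⟨R₀, hR₀⟩ := exists_eq_C_mul hπ (A := A - G * B₀) (by
      rw [Polynomial.map_sub, Polynomial.map_mul, hG, hB₀, hbb, sub_self])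
    refine ⟨-(R * B₀) + R₀ * H, ?_⟩
    have h2 : ev h y A = ev h y G * ev h y B₀ + ιO h π * ev h y R₀ := by
      have h3 := congrArg (ev h y) hR₀
      rw [map_sub, map_mul, map_mul, ev_C] at h3
      rw [← h3]
      ring
    have h4 : ev h y A * ev h y H = ιO h π * ev h y (-(R * B₀) + R₀ * H) := by
      rw [map_add, map_neg, map_mul, map_mul, h2]
      linear_combination (ev h y B₀) * hGH
    have h5 := congrArg (fun z : Q.O => Q.1 (z : K')) h4
    simp only [MulMemClass.coe_mul, map_mul, hHu1, mul_one] at h5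
    exact h5
  have hQπ : Q.1 (algebraMap K K' (π : K)) = exp (-(ramIdx Q P : ℤ)) := by
    rw [val_algebraMap h, hπ, ← exp_nsmul]
    simp
  have he := ramIdx_pos h
  -- the values of polynomials in `y`
  have hval : ∀ (n : ℕ) (A : (P.O)[X]), (ev h y A : K') ≠ 0 → Q.ord (ev h y A : K') ≤ n →
      ∃ m : ℤ, Q.1 (ev h y A : K') = exp (-(ramIdx Q P * m : ℤ)) := by
    intro n
    induction n with
    | zero =>
      intro A hA0 hA
      refine ⟨0, ?_⟩
      have h1 := (ev h y A).2
      rw [mem_O, val_eq_exp Q hA0, ← exp_zero, exp_le_exp] at h1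
      rw [val_eq_exp Q hA0]
      congr 1
      push_cast at hA
      linarith
    | succ n ih =>
      intro A hA0 hA
      have h1 := (ev h y A).2
      rw [mem_O] at h1
      rcases h1.lt_or_eq with h2 | h2
      · obtain ⟨B, hB⟩ := hstep A h2
        have hB0 : (ev h y B : K') ≠ 0 := by
          intro h0
          rw [h0, map_zero, mul_zero] at hB
          exact val_ne_zero Q hA0 hB
        have h3 : Q.ord (ev h y B : K') ≤ n := by
          rw [hQπ, val_eq_exp Q hA0, val_eq_exp Q hB0, ← exp_add, exp_inj] at hB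
          have he' : (1 : ℤ) ≤ ramIdx Q P := by exact_mod_cast he
          push_cast at hA
          linarith
        obtain ⟨m, hm⟩ := ih B hB0 h3
        refine ⟨m + 1, ?_⟩
        rw [hB, hQπ, hm, ← exp_add]
        congr 1
        ring
      · refine ⟨0, ?_⟩
        rw [h2, mul_zero, neg_zero, exp_zero]
  -- every element of `K'`
  have hall : ∀ x : K', x ≠ 0 → ∃ m : ℤ, Q.1 x = exp (-(ramIdx Q P * m : ℤ)) := by
    intro x hx
    have hyint : IsIntegral K (y : K') := Algebra.IsIntegral.isIntegral _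
    have hx1 : x ∈ IntermediateField.adjoin K {(y : K')} := by
      rw [hgen]
      exact IntermediateField.mem_top
    rw [← IntermediateField.mem_toSubalgebra,
      IntermediateField.adjoin_simple_toSubalgebra_of_isAlgebraic hyint.isAlgebraic,
      Algebra.adjoin_singleton_eq_range_aeval] at hx1
    obtain ⟨g, rfl⟩ := hx1
    -- clear denominators
    obtain ⟨N, hN⟩ : ∃ N : ℕ, ∀ i, P.1 (π₀ ^ N * g.coeff i) ≤ 1 := by
      obtain ⟨b, hb⟩ := IsLocalization.exist_integer_multiples_of_finset (nonZeroDivisors P.O)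
        g.coeffs
      refine ⟨(P.ord ((b : P.O) : K)).toNat, fun i => ?_⟩
      by_cases hi : g.coeff i = 0
      · rw [hi, mul_zero, map_zero]
        exact zero_le_one
      obtain ⟨c, hc⟩ := hb (g.coeff i) (coeff_mem_coeffs hi)
      have hb0 : ((b : P.O) : K) ≠ 0 := by
        intro h0
        exact nonZeroDivisors.ne_zero b.2 (Subtype.ext h0)
      have h1 : P.1 (((b : P.O) : K) * g.coeff i) ≤ 1 := by
        have : ((b : P.O) : K) * g.coeff i = ((c : P.O) : K) := by
          have h3 : (b : P.O) • g.coeff i = ((b : P.O) : K) * g.coeff i := rfl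
          rw [← h3]
          exact hc.symm
        rw [this]
        exact c.2
      rw [map_mul, map_pow, hπ₀, ← exp_nsmul]
      rw [map_mul, val_eq_exp P hb0] at h1
      refine le_trans ?_ h1
      gcongr
      rw [exp_le_exp]
      simp only [nsmul_eq_mul, mul_neg, mul_one, neg_le_neg_iff]
      exact Int.self_le_toNat _
    obtain ⟨A, hA⟩ : ∃ A : (P.O)[X], A.map (algebraMap P.O K) = C (π₀ ^ N) * g := by
      have : C (π₀ ^ N) * g ∈ Polynomial.lifts (algebraMap P.O K) := by
        rw [Polynomial.lifts_iff_coeff_lifts]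
        intro n
        rw [coeff_C_mul]
        exact ⟨⟨_, hN n⟩, rfl⟩
      exact this
    have hevA : (ev h y A : K') = algebraMap K K' (π₀ ^ N) * aeval (y : K') g := by
      have h1 : (ev h y A : K') = aeval (y : K') (A.map (algebraMap P.O K)) := by
        rw [aeval_def, eval₂_map, ev, coe_eval₂RingHom]
        change Q.O.subtype _ = _
        rw [hom_eval₂]
        rfl
      rw [h1, hA, map_mul, aeval_C]
    have hA0 : (ev h y A : K') ≠ 0 := by
      rw [hevA]
      refine mul_ne_zero ?_ hx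
      rw [Ne, map_eq_zero]
      refine pow_ne_zero _ ?_
      rintro rfl
      rw [map_zero] at hπ₀
      exact exp_ne_zero hπ₀.symm
    obtain ⟨m, hm⟩ := hval (Q.ord (ev h y A : K')).toNat A hA0 (Int.self_le_toNat _)
    refine ⟨m - N, ?_⟩
    have h2 : Q.1 (algebraMap K K' (π₀ ^ N)) = exp (-(ramIdx Q P * N : ℤ)) := by
      have h3 : Q.1 (algebraMap K K' π₀) = exp (-(ramIdx Q P : ℤ)) := hQπ
      rw [map_pow, map_pow, h3, ← exp_nsmul]
      congr 1
      rw [nsmul_eq_mul]
      ring
    rw [hevA, map_mul, h2] at hm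
    have h4 : Q.1 (aeval (y : K') g) = (exp (-(ramIdx Q P * N : ℤ)))⁻¹ *
        (exp (-(ramIdx Q P * N : ℤ)) * Q.1 (aeval (y : K') g)) := by
      rw [inv_mul_cancel_left₀ exp_ne_zero]
    change Q.1 (aeval (y : K') g) = _
    rw [h4, hm, ← exp_neg, ← exp_add]
    congr 1
    ring
  obtain ⟨τ, hτ⟩ := exists_unif Q
  have hτ0 : τ ≠ 0 := by
    rintro rfl
    rw [map_zero] at hτ
    exact exp_ne_zero hτ.symm
  obtain ⟨m, hm⟩ := hall τ hτ0
  rw [hτ, exp_inj] at hm
  have h1 : (ramIdx Q P : ℤ) * m = 1 := by linarith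
  have h2 := Int.isUnit_iff.1 (IsUnit.of_mul_eq_one _ h1)
  rcases h2 with h2 | h2
  · exact_mod_cast h2
  · omega

open scoped Classical in
/-- In a finite separable extension almost all places are unramified. -/
theorem finite_ramified [Algebra.IsSeparable K K'] (hG : ∃ t : K, K660.Places.IsGen k K t) :
    {Q : Place k K' | ¬ Function.Surjective (Q.1.comap (algebraMap K K'))}.Finite := by
  obtain ⟨t, ht⟩ := hG
  have ht' : K660.Places.IsGen k K' (algebraMap K K' t) := K661.OverFF.isGen_algebraMap ht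
  obtain ⟨y, hy⟩ := Field.exists_primitive_element K K'
  have hyint : IsIntegral K y := Algebra.IsIntegral.isIntegral _
  let f := minpoly K y
  have hfm : f.Monic := minpoly.monic hyint
  have hd : aeval y (derivative f) ≠ 0 :=
    (Algebra.IsSeparable.isSeparable K y).aeval_derivative_ne_zero (minpoly.aeval K y)
  have hS : ({Q : Place k K' | ¬ Q.1 y ≤ 1} ∪
      (⋃ i ∈ Finset.range (f.natDegree + 1), {Q : Place k K' | ¬ Q.1 (algebraMap K K' (f.coeff i)) ≤ 1}) ∪
      {Q : Place k K' | ¬ Q.1 (aeval y (derivative f))⁻¹ ≤ 1}).Finite := by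
    refine ((ht'.finite_pole _).union ?_).union (ht'.finite_pole _)
    exact Set.Finite.biUnion (Finset.finite_toSet _) fun i _ => ht'.finite_pole _
  refine hS.subset fun Q hQ => ?_
  by_contra hcon
  simp only [Set.mem_union, not_or, Set.mem_iUnion, not_exists] at hcon
  obtain ⟨⟨hQy, hQc⟩, hQd⟩ := hcon
  have hQy' : Q.1 y ≤ 1 := not_not.1 hQy
  have hQd' : Q.1 (aeval y (derivative f))⁻¹ ≤ 1 := not_not.1 hQd
  have hQc' : ∀ i, Q.1 (algebraMap K K' (f.coeff i)) ≤ 1 := by
    intro i
    by_cases hi : i ∈ Finset.range (f.natDegree + 1)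
    · exact not_not.1 (hQc i hi)
    · rw [Finset.mem_range] at hi
      rw [coeff_eq_zero_of_natDegree_lt (by omega), map_zero, map_zero]
      exact zero_le_one
  apply hQ
  obtain ⟨P, hP⟩ := exists_below (K := K) Q
  obtain ⟨F, hF⟩ : ∃ F : (P.O)[X], F.map (algebraMap P.O K) = f := by
    have : f ∈ Polynomial.lifts (algebraMap P.O K) := by
      rw [Polynomial.lifts_iff_coeff_lifts]
      intro n
      exact ⟨⟨_, (val_algebraMap_le_one_iff hP _).1 (hQc' n)⟩, rfl⟩
    exact this
  have hinj : Function.Injective (algebraMap P.O K) := Subtype.val_injective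
  have hFm : F.Monic := monic_of_injective hinj (by rw [hF]; exact hfm)
  let y' : Q.O := ⟨y, hQy'⟩
  have hev : ∀ A : (P.O)[X], (ev hP y' A : K') = aeval y (A.map (algebraMap P.O K)) := by
    intro A
    rw [aeval_def, eval₂_map, ev, coe_eval₂RingHom]
    change Q.O.subtype _ = _
    rw [hom_eval₂]
    rfl
  have h1 : ramIdx Q P = 1 := by
    refine ramIdx_eq_one_of_simple_root hP y' hy F hFm ?_ ?_
    · refine Subtype.ext ?_
      rw [hev, hF]
      exact minpoly.aeval K y
    · rw [Ne, IsLocalRing.residue_eq_zero_iff, mem_maximalIdeal_iff, hev, ← derivative_map, hF,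
        not_lt]
      rw [map_inv₀] at hQd'
      exact (inv_le_one₀ (zero_lt_iff.2 (val_ne_zero Q hd))).1 hQd'
  intro z
  obtain ⟨x, hx⟩ := P.2.2 z
  refine ⟨x, ?_⟩
  rw [Valuation.comap_apply, val_algebraMap hP, h1, pow_one, hx]

end K662.Unram
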