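import Groth.Agent.FunFld.K662.Galois
import Groth.Agent.FunFld.K662.Unram
import Groth.Agent.FunFld.K664.WeakApprox
import Mathlib.RingTheory.Invariant.Galois

/-!
# The inertia group has order `e`

`K'/K` finite Galois, `Q | P` with `F_Q` separable over `F_P`: `|G₁| = e(Q | P)`.
-/

set_option autoImplicit false
set_option linter.unusedSectionVars false
open WithZero FunFld K661.Place K661.Galois K662.Galois K662.Unram Polynomial
open scoped Pointwise

namespace K662.Inertia

variable {k K K' : Type*} [Field k] [Field K] [Field K'] [Algebra k K] [Algebra K K']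
  [Algebra k K'] [IsScalarTower k K K'] [FiniteDimensional K K'] {Q : Place k K'} {P : Place k K}
  (h : IsOver Q P)

theorem smul_ιF (σ : (Q.O).decompositionSubgroup K) (a : IsLocalRing.ResidueField P.O) :
    σ • ιF h a = ιF h a := by
  obtain ⟨x, rfl⟩ := IsLocalRing.residue_surjective a
  rw [ιF_residue, residue_smul_eq_iff, ιO_coe, AlgEquiv.commutes, sub_self, map_zero]
  exact zero_lt_one

variable [IsGalois K K']

/-- A residue class fixed by the decomposition group comes from below, if it is separable over `F_P`. -/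
theorem mem_range_of_fixed (z : IsLocalRing.ResidueField Q.O)
    (hsep : letI := (ιF h).toAlgebra
      IsSeparable (IsLocalRing.ResidueField P.O) z)
    (hz : ∀ σ : (Q.O).decompositionSubgroup K, σ • z = z) : z ∈ (ιF h).range := by
  classical
  let _ : Algebra (IsLocalRing.ResidueField P.O) (IsLocalRing.ResidueField Q.O) := (ιF h).toAlgebra
  by_cases hz0 : z = 0
  · exact ⟨0, by rw [hz0, map_zero]⟩
  obtain ⟨z₀, hz₀⟩ := IsLocalRing.residue_surjective z
  let S : Finset (Place k K') := Finset.univ.image fun σ : K' ≃ₐ[K] K' => comapEquiv Q σ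
  obtain ⟨y, hy⟩ := K664.weak_approx_le S (fun R => if R = Q then (z₀ : K') else 0) (fun _ => 1)
  have hlt : (exp (-1 : ℤ) : ℤᵐ⁰) < 1 := by
    rw [← exp_zero, exp_lt_exp]
    omega
  have hSmem : ∀ σ : K' ≃ₐ[K] K', comapEquiv Q σ ∈ S := fun σ =>
    Finset.mem_image.2 ⟨σ, Finset.mem_univ _, rfl⟩
  have hyQ : Q.1 (y - z₀) < 1 := by
    have h1 := hy Q (hSmem 1)
    rw [if_pos rfl] at h1
    exact h1.trans_lt hlt
  have hyσ : ∀ σ : K' ≃ₐ[K] K', comapEquiv Q σ ≠ Q → Q.1 (σ y) < 1 := by
    intro σ hσ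
    have h1 := hy _ (hSmem σ)
    rw [if_neg hσ, sub_zero] at h1
    exact h1.trans_lt hlt
  have hyσ' : ∀ σ : K' ≃ₐ[K] K', comapEquiv Q σ = Q → Q.1 (σ y - z₀) < 1 := by
    intro σ hσ
    have h2 := comapEquiv_eq_iff.1 hσ
    have h3 := hz ⟨σ, mem_decomp_iff.2 h2⟩
    rw [← hz₀] at h3
    have h4 := (residue_smul_eq_iff _ _).1 h3
    have h5 : σ y - z₀ = σ (y - z₀) + (σ z₀ - z₀) := by
      rw [map_sub]
      ring
    rw [h5]
    refine Q.1.map_add_lt ?_ h4
    rw [h2]
    exact hyQ
  have hle : ∀ σ : K' ≃ₐ[K] K', Q.1 (σ y) ≤ 1 := by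
    intro σ
    by_cases hσ : comapEquiv Q σ = Q
    · have h5 : σ y = (σ y - z₀) + z₀ := by ring
      rw [h5]
      exact (Q.1.map_add _ _).trans (max_le (hyσ' σ hσ).le z₀.2)
    · exact (hyσ σ hσ).le
  let s : (K' ≃ₐ[K] K') → Q.O := fun σ => ⟨σ y, hle σ⟩
  have hs : ∀ σ, IsLocalRing.residue Q.O (s σ) = z ∨ IsLocalRing.residue Q.O (s σ) = 0 := by
    intro σ
    by_cases hσ : comapEquiv Q σ = Q
    · left
      rw [← hz₀, ← sub_eq_zero, ← map_sub, IsLocalRing.residue_eq_zero_iff, mem_maximalIdeal_iff]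
      exact hyσ' σ hσ
    · right
      rw [IsLocalRing.residue_eq_zero_iff, mem_maximalIdeal_iff]
      exact hyσ σ hσ
  have hs1 : IsLocalRing.residue Q.O (s 1) = z := by
    rw [← hz₀, ← sub_eq_zero, ← map_sub, IsLocalRing.residue_eq_zero_iff, mem_maximalIdeal_iff]
    exact hyσ' 1 rfl
  -- the characteristic polynomial
  let f : (Q.O)[X] := ∏ σ : K' ≃ₐ[K] K', (X - C (s σ))
  have hf1 : f.map (algebraMap Q.O K') = MulSemiringAction.charpoly (K' ≃ₐ[K] K') y := by
    rw [MulSemiringAction.charpoly_eq, Polynomial.map_prod]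
    refine Finset.prod_congr rfl fun σ _ => ?_
    rw [Polynomial.map_sub, map_X, map_C]
    rfl
  have hinv : Algebra.IsInvariant K K' (K' ≃ₐ[K] K') := by
    refine ⟨fun b hb => ?_⟩
    have := (IsGalois.mem_bot_iff_fixed (F := K) (E := K') b).2 hb
    rwa [IntermediateField.mem_bot] at this
  obtain ⟨F₀, hF₀⟩ := (mem_lifts _).1
    (Algebra.IsInvariant.charpoly_mem_lifts K K' (K' ≃ₐ[K] K') y)
  obtain ⟨F, hF⟩ : ∃ F : (P.O)[X], F.map (algebraMap P.O K) = F₀ := by
    have : F₀ ∈ Polynomial.lifts (algebraMap P.O K) := by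
      rw [Polynomial.lifts_iff_coeff_lifts]
      intro n
      refine ⟨⟨F₀.coeff n, ?_⟩, rfl⟩
      have h1 : algebraMap K K' (F₀.coeff n) = ((f.coeff n : Q.O) : K') := by
        rw [← coeff_map, hF₀, ← hf1, coeff_map]
        rfl
      exact (val_algebraMap_le_one_iff h _).1 (by rw [h1]; exact (f.coeff n).2)
    exact this
  have hFf : F.map (ιO h) = f := by
    have hinj : Function.Injective (algebraMap Q.O K') := Subtype.val_injective
    apply Polynomial.map_injective _ hinj
    rw [hf1, ← hF₀, ← hF, Polynomial.map_map, Polynomial.map_map]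
    rfl
  have hFb : (F.map (IsLocalRing.residue P.O)).map (ιF h) =
      ∏ σ : K' ≃ₐ[K] K', (X - C (IsLocalRing.residue Q.O (s σ))) := by
    rw [Polynomial.map_map, ιF_comp, ← Polynomial.map_map, hFf, Polynomial.map_prod]
    refine Finset.prod_congr rfl fun σ _ => ?_
    rw [Polynomial.map_sub, map_X, map_C]
  have hne : (∏ σ : K' ≃ₐ[K] K', (X - C (IsLocalRing.residue Q.O (s σ)))) ≠ 0 :=
    Finset.prod_ne_zero_iff.2 fun σ _ => X_sub_C_ne_zero _
  have hroot : aeval z (F.map (IsLocalRing.residue P.O)) = 0 := by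
    rw [aeval_def, ← eval_map]
    change eval z ((F.map (IsLocalRing.residue P.O)).map (ιF h)) = 0
    rw [hFb, eval_prod]
    refine Finset.prod_eq_zero (Finset.mem_univ 1) ?_
    rw [eval_sub, eval_X, eval_C, hs1, sub_self]
  let g := minpoly (IsLocalRing.ResidueField P.O) z
  have hgdvd : g.map (ιF h) ∣ ∏ σ : K' ≃ₐ[K] K', (X - C (IsLocalRing.residue Q.O (s σ))) := by
    rw [← hFb]
    exact Polynomial.map_dvd _ (minpoly.dvd _ _ hroot)
  have hint : IsIntegral (IsLocalRing.ResidueField P.O) z := hsep.isIntegral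
  have hsplit : (g.map (ιF h)).Splits :=
    Splits.of_dvd (Splits.prod fun σ _ => Splits.X_sub_C _) hne hgdvd
  have hnodup : (g.map (ιF h)).roots.Nodup := nodup_roots (Polynomial.Separable.map hsep)
  have hroots : ∀ w ∈ (g.map (ιF h)).roots, w = z := by
    intro w hw
    have hw1 : eval w (g.map (ιF h)) = 0 := (mem_roots'.1 hw).2
    have hw2 : eval w (∏ σ : K' ≃ₐ[K] K', (X - C (IsLocalRing.residue Q.O (s σ)))) = 0 :=
      eval_eq_zero_of_dvd_of_eval_eq_zero hgdvd hw1
    rw [eval_prod, Finset.prod_eq_zero_iff] at hw2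
    obtain ⟨σ, -, hσ⟩ := hw2
    rw [eval_sub, eval_X, eval_C, sub_eq_zero] at hσ
    rcases hs σ with h1 | h1
    · rw [hσ, h1]
    · exfalso
      rw [h1] at hσ
      rw [hσ, ← coeff_zero_eq_eval_zero, coeff_map, map_eq_zero, minpoly.coeff_zero_eq_zero hint] at hw1
      exact hz0 hw1
  have hcard : (g.map (ιF h)).roots.card ≤ 1 := by
    have h1 : (g.map (ιF h)).roots = Multiset.replicate (g.map (ιF h)).roots.card z :=
      Multiset.eq_replicate_card.2 hroots
    rw [h1, Multiset.nodup_iff_count_le_one] at hnodup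
    have h2 := hnodup z
    rwa [Multiset.count_replicate_self] at h2
  have hdeg : g.natDegree = 1 := by
    have h1 := hsplit.natDegree_eq_card_roots
    rw [natDegree_map] at h1
    have h2 : 0 < g.natDegree := minpoly.natDegree_pos hint
    omega
  exact (minpoly.natDegree_eq_one_iff (A := IsLocalRing.ResidueField P.O)).1 hdeg

/-- `|G₁| = e`. -/
theorem card_inertia (hG : ∃ t : K, K660.Places.IsGen k K t) {e : ℕ} (he : IsOverWith Q P e)
    (hsep : letI := (ιF ⟨e, he⟩).toAlgebra
      Algebra.IsSeparable (IsLocalRing.ResidueField P.O) (IsLocalRing.ResidueField Q.O)) :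
    Nat.card ((Q.O).inertiaSubgroup K) = e := by
  classical
  have h : IsOver Q P := ⟨e, he⟩
  have hG' : ∃ t : K', K660.Places.IsGen k K' t := by
    obtain ⟨t, ht⟩ := hG
    exact ⟨_, K661.OverFF.isGen_algebraMap ht⟩
  have hfQ := (K660.Compare.finite_residue_and_degG hG' Q).1
  have hfP := (K660.Compare.finite_residue_and_degG hG P).1
  let _ : Algebra (IsLocalRing.ResidueField P.O) (IsLocalRing.ResidueField Q.O) := (ιF h).toAlgebra
  have htower : IsScalarTower k (IsLocalRing.ResidueField P.O) (IsLocalRing.ResidueField Q.O) := by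
    refine IsScalarTower.of_algebraMap_eq fun c => ?_
    change IsLocalRing.residue Q.O _ = ιF h (IsLocalRing.residue P.O _)
    rw [ιF_residue]
    congr 1
    refine Subtype.ext ?_
    rw [ιO_coe]
    exact IsScalarTower.algebraMap_apply k K K' c
  have hfin : FiniteDimensional (IsLocalRing.ResidueField P.O) (IsLocalRing.ResidueField Q.O) :=
    @Module.Finite.of_restrictScalars_finite k _ _ _ _ _ _ _ _ htower _
  have hcomm : SMulCommClass ((Q.O).decompositionSubgroup K) (IsLocalRing.ResidueField P.O)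
      (IsLocalRing.ResidueField Q.O) := by
    refine ⟨fun σ a x => ?_⟩
    rw [Algebra.smul_def, Algebra.smul_def, smul_mul']
    congr 1
    exact smul_ιF h σ a
  let ρ : (Q.O).decompositionSubgroup K →*
      (IsLocalRing.ResidueField Q.O ≃ₐ[IsLocalRing.ResidueField P.O] IsLocalRing.ResidueField Q.O) :=
    MulSemiringAction.toAlgAut _ _ _
  have hρ : ∀ σ x, ρ σ x = σ • x := fun _ _ => rfl
  have hker : ρ.ker = (Q.O).inertiaSubgroup K := by
    ext σ
    rw [mem_inertia_iff, MonoidHom.mem_ker]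
    constructor
    · intro h1 x hx
      have h2 := DFunLike.congr_fun h1 (IsLocalRing.residue Q.O ⟨x, hx⟩)
      exact (residue_smul_eq_iff σ ⟨x, hx⟩).1 h2
    · intro h1
      refine AlgEquiv.ext fun z => ?_
      obtain ⟨x, rfl⟩ := IsLocalRing.residue_surjective z
      exact (residue_smul_eq_iff σ x).2 (h1 x x.2)
  have hfix : IntermediateField.fixedField ρ.range = ⊥ := by
    rw [eq_bot_iff]
    intro z hz
    rw [IntermediateField.mem_bot]
    refine mem_range_of_fixed h z (Algebra.IsSeparable.isSeparable _ z) fun σ => ?_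
    rw [← hρ]
    exact (IntermediateField.mem_fixedField_iff _ _).1 hz (ρ σ) ⟨σ, rfl⟩
  have h1 : Module.finrank (IsLocalRing.ResidueField P.O) (IsLocalRing.ResidueField Q.O) =
      Nat.card ρ.range := by
    rw [← IntermediateField.finrank_fixedField_eq_card, hfix, IntermediateField.finrank_bot']
  have h2 : Nat.card ρ.ker * Nat.card ρ.range = Nat.card ((Q.O).decompositionSubgroup K) := by
    rw [← Subgroup.index_ker, Subgroup.card_mul_index]
  have h3 := card_decomp_mul_deg hG he
  have h4 : Q.deg = P.deg * Module.finrank (IsLocalRing.ResidueField P.O)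
      (IsLocalRing.ResidueField Q.O) :=
    (@Module.finrank_mul_finrank k (IsLocalRing.ResidueField P.O) (IsLocalRing.ResidueField Q.O)
      _ _ _ _ _ _ htower _ _).symm
  have h5 : 0 < P.deg := Module.finrank_pos
  have h6 : 0 < Nat.card ρ.range := by
    rw [← h1]
    exact Module.finrank_pos
  rw [← h2, h4, ← h1, hker] at h3
  have h7 : 0 < Module.finrank (IsLocalRing.ResidueField P.O) (IsLocalRing.ResidueField Q.O) * P.deg :=
    Nat.mul_pos Module.finrank_pos h5
  refine Nat.eq_of_mul_eq_mul_right h7 ?_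
  linarith

/-- `|G₁| = e`, for `F_Q` separable over `k`. -/
theorem card_inertia' (hG : ∃ t : K, K660.Places.IsGen k K t) {e : ℕ} (he : IsOverWith Q P e)
    [Algebra.IsSeparable k (IsLocalRing.ResidueField Q.O)] :
    Nat.card ((Q.O).inertiaSubgroup K) = e := by
  refine card_inertia hG he ?_
  have h : IsOver Q P := ⟨e, he⟩
  let _ : Algebra (IsLocalRing.ResidueField P.O) (IsLocalRing.ResidueField Q.O) :=
    (ιF h).toAlgebra
  have htower : IsScalarTower k (IsLocalRing.ResidueField P.O) (IsLocalRing.ResidueField Q.O) := by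
    refine IsScalarTower.of_algebraMap_eq fun c => ?_
    change IsLocalRing.residue Q.O _ = ιF h (IsLocalRing.residue P.O _)
    rw [ιF_residue]
    congr 1
    refine Subtype.ext ?_
    rw [ιO_coe]
    exact IsScalarTower.algebraMap_apply k K K' c
  exact Algebra.isSeparable_tower_top_of_isSeparable k _ _

theorem mem_map_inertia_iff {Q : Place k K'} {σ : K' ≃ₐ[K] K'} :
    σ ∈ ((Q.O).inertiaSubgroup K).map ((Q.O).decompositionSubgroup K).subtype ↔
      ∀ x : K', Q.1 x ≤ 1 → Q.1 (σ x - x) < 1 := by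
  constructor
  · rintro ⟨τ, hτ, rfl⟩
    exact mem_inertia_iff.1 hτ
  · intro h
    have h1 : ∀ x, Q.1 x ≤ 1 → Q.1 (σ x) ≤ 1 := by
      intro x hx
      have h2 : σ x = (σ x - x) + x := by ring
      rw [h2]
      exact (Q.1.map_add _ _).trans (max_le (h x hx).le hx)
    have h2 : comapEquiv Q σ = Q := (eq_of_le (P := Q) (P' := comapEquiv Q σ) h1).symm
    exact ⟨⟨σ, mem_decomp_iff_comapEquiv.2 h2⟩, mem_inertia_iff.2 h, rfl⟩

end K662.Inertia
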