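import Groth.Agent.FunFld.K661.OverFF
import Groth.Agent.FunFld.K660.Ord
import Groth.Agent.CycB.OrdNorm
import Groth.Agent.CurvesA.DivQuot

/-!
# The order of the norm at a place

`deg P · ord_P (N_{K'/K} x) = ∑_{Q | P} deg Q · ord_Q x`, for `K'/K` finite (separable or not), `K` finite over
`k(t)` (`IsGen`).
-/

set_option autoImplicit false
set_option linter.unusedSectionVars false
open WithZero FunFld IsDedekindDomain K661.Place K661.Over K661.OverFF K660.Places

namespace K662.Norm

section DVR

variable {k K : Type*} [Field k] [Field K] [Algebra k K]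

theorem log_ordFrac (R : Type*) [CommRing R] (K : Type*) [Field K] [Algebra R K]
    [IsNoetherianRing R] [Ring.KrullDimLE 1 R] [Nontrivial R] [IsFractionRing R K] {f : K}
    (hf : f ≠ 0) : WithZero.log (Ring.ordFrac R f) = CycAlg.ordFrac R K f := by
  rw [Groth.Agent.CycB.OrdFrac.coe_ordFrac R K hf]
  exact WithZero.log_exp _

theorem ordFrac_eq_ord (P : Place k K) {x : K} (hx : x ≠ 0) :
    CycAlg.ordFrac P.O K x = P.ord x := by
  have hloc : IsLocalization.AtPrime P.O (maxSpec P).asIdeal := IsLocalization.self (fun a ha => by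
    have h1 : a ∉ IsLocalRing.maximalIdeal P.O := ha
    exact (IsLocalRing.notMem_maximalIdeal).1 h1)
  have h := Groth.Agent.CurvesA.DivQuot.log_ordFrac P.O K (maxSpec P) x hx
  rw [maxSpec_valuation, log_ordFrac P.O K hx] at h
  exact h

end DVR

variable {k K K' : Type*} [Field k] [Field K] [Field K'] [Algebra k K] [Algebra K K']
  [Algebra k K'] [IsScalarTower k K K'] [FiniteDimensional K K']

section

variable (P : Place k K) [Algebra P.O K'] [IsScalarTower P.O K K']
  [hd : IsDedekindDomain (integralClosure P.O K')]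

attribute [local instance] isFrac

theorem ordFrac_eq_ord_placeOf (q : HeightOneSpectrum (integralClosure P.O K')) {x : K'}
    (hx : x ≠ 0) :
    CycAlg.ordFrac (HeightOneSpectrum.valuationSubringAtPrime K' q) K' x = (placeOf P q).ord x := by
  have h1 : IsDiscreteValuationRing (HeightOneSpectrum.valuationSubringAtPrime K' q) := by
    have h2 := HeightOneSpectrum.valuationSubringAtPrime_eq_valuationSubring (K := K') (v := q)
    rw [h2]
    exact isDVR (placeOf P q)
  have h := Groth.Agent.CurvesA.DivQuot.log_ordFrac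
    (HeightOneSpectrum.valuationSubringAtPrime K' q) K' q x hx
  rw [log_ordFrac _ K' hx] at h
  exact h

theorem isLoc (q : HeightOneSpectrum (integralClosure P.O K')) :
    IsLocalization.AtPrime (HeightOneSpectrum.valuationSubringAtPrime K' q) q.asIdeal :=
  inferInstanceAs (IsLocalization q.asIdeal.primeCompl _)

theorem length_mul_deg [Module.Finite P.O (integralClosure P.O K')]
    (q : HeightOneSpectrum (integralClosure P.O K')) :
    (Module.length P.O (integralClosure P.O K' ⧸ q.asIdeal)).toNat * P.deg = (placeOf P q).deg := by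
  have hlo := liesOver P q
  have hmax := q.isMaximal
  have hmaxP : (maxSpec P).asIdeal.IsMaximal := (maxSpec P).isMaximal
  rw [deg_placeOf, Ideal.inertiaDeg_eq_of_isMaximal (maxSpec P).asIdeal q.asIdeal]
  congr 1
  let _ : Field (P.O ⧸ (maxSpec P).asIdeal) := Ideal.Quotient.field _
  rw [Module.length_eq_of_surjective (M := integralClosure P.O K' ⧸ q.asIdeal)
    (R := P.O ⧸ (maxSpec P).asIdeal) (Ideal.Quotient.mk_surjective (I := (maxSpec P).asIdeal)),
    Module.length_eq_rank, Module.finrank]
  exact Cardinal.toNat_toENat _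

theorem ord_norm_aux [hf : Module.Finite P.O (integralClosure P.O K')] {x : K'} (hx : x ≠ 0)
    (Qs : Finset (Place k K')) (hQs : ∀ Q, Q ∈ Qs ↔ IsOver Q P) :
    (P.deg : ℤ) * P.ord (Algebra.norm K x) = ∑ Q ∈ Qs, (Q.deg : ℤ) * Q.ord x := by
  classical
  have htf := torsionFree (K' := K') P
  have hnorm : Algebra.norm K x ≠ 0 := (Algebra.norm_ne_zero_iff).2 hx
  have hfs : FaithfulSMul P.O (integralClosure P.O K') := inferInstance
  have hfin := Groth.Agent.CycB.OrdNorm.finite_maximalSpectrum P.O (integralClosure P.O K')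
  have hnf : ¬ IsField (integralClosure P.O K') := by
    intro hf
    have h3 : IsField P.O :=
      isField_of_isIntegral_of_isField (S := integralClosure P.O K')
        (FaithfulSMul.algebraMap_injective _ _) hf
    exact IsDiscreteValuationRing.not_isField P.O h3
  let _ : Fintype (MaximalSpectrum (integralClosure P.O K')) := Fintype.ofFinite _
  let hs : MaximalSpectrum (integralClosure P.O K') → HeightOneSpectrum (integralClosure P.O K') :=
    fun m => ⟨m.asIdeal, m.isMaximal.isPrime, Ring.ne_bot_of_isMaximal_of_not_isField m.isMaximal hnf⟩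
  have hloc : ∀ m, IsLocalization.AtPrime (HeightOneSpectrum.valuationSubringAtPrime K' (hs m))
      m.asIdeal := fun m => isLoc P (hs m)
  have h := Groth.Agent.CycB.OrdNorm.ordFrac_norm' (A := P.O) (B := integralClosure P.O K') K
    (L := K') (C := fun m => HeightOneSpectrum.valuationSubringAtPrime K' (hs m)) x hx
  rw [ordFrac_eq_ord P hnorm] at h
  rw [h, Finset.mul_sum]
  refine Finset.sum_bij (fun m _ => placeOf P (hs m)) ?_ ?_ ?_ ?_
  · intro m _
    rw [hQs]
    exact placeOf_isOver P _
  · intro m _ m' _ hmm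
    have := placeOf_injective P hmm
    exact MaximalSpectrum.ext (congrArg HeightOneSpectrum.asIdeal this)
  · intro Q hQ
    obtain ⟨q, rfl⟩ := exists_placeOf P ((hQs Q).1 hQ)
    exact ⟨⟨q.asIdeal, q.isMaximal⟩, Finset.mem_univ _, rfl⟩
  · intro m _
    rw [ordFrac_eq_ord_placeOf P (hs m) hx, ← length_mul_deg P (hs m)]
    push_cast
    ring

end

/-- The order of the norm. -/
theorem ord_norm (hG : ∃ t : K, IsGen k K t) (P : Place k K) (x : K')
    (Qs : Finset (Place k K')) (hQs : ∀ Q, Q ∈ Qs ↔ IsOver Q P) :
    (P.deg : ℤ) * P.ord (Algebra.norm K x) = ∑ Q ∈ Qs, (Q.deg : ℤ) * Q.ord x := by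
  by_cases hx : x = 0
  · subst hx
    rw [Algebra.norm_zero]
    simp
  let := algO P K'
  have := towerO P K'
  have hf := finite_O (K' := K') hG P
  have := isDedekind P hf
  exact ord_norm_aux P hx Qs hQs

end K662.Norm
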