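import Groth.Prelude.Def_W4bk4goldsch23FF
import Groth.Agent.FunFld.K661.Place
import Mathlib.Algebra.Polynomial.Identities
import Mathlib.FieldTheory.Separable
import Mathlib.FieldTheory.Minpoly.Basic
import Mathlib.RingTheory.IntegralDomain
import Mathlib.GroupTheory.SpecificGroups.Cyclic
import Mathlib.RingTheory.Valuation.ValuationSubring
import Mathlib.Algebra.CharP.Basic

/-!
# Higher ramification groups of a place

`Q : Place k K'` any place, `σ : K' ≃ₐ[k] K'`. `G Q n σ` says that `σ` acts trivially modulo `Q ^ n`.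
* `G.val_eq`: `Q (σ x) = Q x`;
* `G_of_uniformizer`: for a separable residue field, `σ ∈ G_j` as soon as `σ t ≡ t mod Q ^ j`;
* `G.diff_le`, `quotHom`: `σ ↦ σ x - x mod Q ^ (i + 1)` is a homomorphism on `G_i`, `i ≥ 2`;
* `exists_generator`: `G_1 / G_2` is cyclic.
-/

set_option autoImplicit false
open WithZero FunFld

namespace K662.Ram

variable {k K' : Type*} [Field k] [Field K'] [Algebra k K'] (Q : Place k K')

/-- `σ` acts trivially modulo `Q ^ n`. -/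
def G (n : ℤ) (σ : K' ≃ₐ[k] K') : Prop := ∀ x : K', Q.1 x ≤ 1 → Q.1 (σ x - x) ≤ exp (-n)

/-- The place `Q ∘ σ`. -/
def comapPlace (σ : K' ≃ₐ[k] K') : Place k K' :=
  ⟨Q.1.comap (σ : K' →+* K'), fun c => by
    change Q.1 (σ (algebraMap k K' c)) ≤ 1
    rw [σ.commutes]
    exact Q.2.1 c, fun z => by
    obtain ⟨x, hx⟩ := Q.2.2 z
    refine ⟨σ.symm x, ?_⟩
    change Q.1 (σ (σ.symm x)) = z
    rw [σ.apply_symm_apply, hx]⟩

@[simp] theorem comapPlace_val (σ : K' ≃ₐ[k] K') (x : K') : (comapPlace Q σ).1 x = Q.1 (σ x) := rfl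

variable {Q}

theorem val_sigma_of_le {σ : K' ≃ₐ[k] K'} (h : ∀ x : K', Q.1 x ≤ 1 → Q.1 (σ x) ≤ 1) (x : K') :
    Q.1 (σ x) = Q.1 x := by
  have : Q = comapPlace Q σ := K661.Place.eq_of_le fun x hx => h x hx
  conv_rhs => rw [this]
  rfl

theorem exp_le_one {n : ℤ} (hn : 0 ≤ n) : (exp (-n) : ℤᵐ⁰) ≤ 1 := by
  rw [← exp_zero, exp_le_exp]
  omega

theorem G.le_one {n : ℤ} (hn : 0 ≤ n) {σ : K' ≃ₐ[k] K'} (h : G Q n σ) (x : K') (hx : Q.1 x ≤ 1) :
    Q.1 (σ x) ≤ 1 := by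
  have h1 : σ x = (σ x - x) + x := by ring
  rw [h1]
  exact (Q.1.map_add _ _).trans (max_le ((h x hx).trans (exp_le_one hn)) hx)

theorem G.val_eq {n : ℤ} (hn : 0 ≤ n) {σ : K' ≃ₐ[k] K'} (h : G Q n σ) (x : K') :
    Q.1 (σ x) = Q.1 x := val_sigma_of_le (h.le_one hn) x

theorem G.mono {m n : ℤ} (hmn : m ≤ n) {σ : K' ≃ₐ[k] K'} (h : G Q n σ) : G Q m σ := fun x hx =>
  (h x hx).trans (exp_le_exp.2 (by omega))

theorem G_one (n : ℤ) : G Q n (1 : K' ≃ₐ[k] K') := fun x _ => by simp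

theorem G.mul {n : ℤ} (hn : 0 ≤ n) {σ τ : K' ≃ₐ[k] K'} (hσ : G Q n σ) (hτ : G Q n τ) :
    G Q n (σ * τ) := fun x hx => by
  have h1 : (σ * τ) x - x = σ (τ x - x) + (σ x - x) := by
    rw [AlgEquiv.mul_apply, map_sub]
    ring
  rw [h1]
  refine (Q.1.map_add _ _).trans (max_le ?_ (hσ x hx))
  rw [hσ.val_eq hn]
  exact hτ x hx

theorem G.inv {n : ℤ} (hn : 0 ≤ n) {σ : K' ≃ₐ[k] K'} (hσ : G Q n σ) : G Q n σ⁻¹ := fun x hx => by
  have h0 : σ (σ⁻¹ x) = x := σ.apply_symm_apply x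
  have h1 : Q.1 (σ⁻¹ x) ≤ 1 := by
    rw [← hσ.val_eq hn, h0]
    exact hx
  have h2 := hσ _ h1
  rw [h0] at h2
  rw [← Valuation.map_neg, neg_sub]
  exact h2

variable (Q) in
/-- The `n`-th ramification group (in the numbering where `G_1` is the inertia group). -/
def Gsub (n : ℤ) (hn : 0 ≤ n) : Subgroup (K' ≃ₐ[k] K') where
  carrier := {σ | G Q n σ}
  mul_mem' hσ hτ := G.mul hn hσ hτ
  one_mem' := G_one n
  inv_mem' hσ := G.inv hn hσ

theorem mem_Gsub {n : ℤ} {hn : 0 ≤ n} {σ : K' ≃ₐ[k] K'} : σ ∈ Gsub Q n hn ↔ G Q n σ := Iff.rfl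

theorem exists_eq_mul {t : K'} (ht : Q.1 t = exp (-1 : ℤ)) {y : K'} {m : ℤ}
    (hy : Q.1 y ≤ exp (-(m + 1))) : ∃ z, y = t * z ∧ Q.1 z ≤ exp (-m) := by
  have ht0 : t ≠ 0 := by
    rintro rfl
    rw [map_zero] at ht
    exact exp_ne_zero ht.symm
  refine ⟨t⁻¹ * y, by rw [mul_inv_cancel_left₀ ht0], ?_⟩
  rw [map_mul, map_inv₀, ht, ← exp_neg]
  calc exp (-(-1 : ℤ)) * Q.1 y ≤ exp (-(-1 : ℤ)) * exp (-(m + 1)) := by gcongr
    _ = exp (-m) := by
      rw [← exp_add]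
      congr 1
      ring

theorem val_diff_mul_le {σ : K' ≃ₐ[k] K'} {t z : K'} {a b : ℤᵐ⁰}
    (h1 : Q.1 (σ t - t) * Q.1 (σ z) ≤ a) (h2 : Q.1 t * Q.1 (σ z - z) ≤ b) :
    Q.1 (σ (t * z) - t * z) ≤ max a b := by
  have h : σ (t * z) - t * z = (σ t - t) * σ z + t * (σ z - z) := by
    rw [map_mul]
    ring
  rw [h]
  refine (Q.1.map_add _ _).trans (max_le_max ?_ ?_)
  · rwa [map_mul]
  · rwa [map_mul]

/-- The uniformizer criterion, one step. -/
theorem G_succ [Algebra.IsSeparable k (IsLocalRing.ResidueField Q.O)] {t : K'}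
    (ht : Q.1 t = exp (-1 : ℤ)) {σ : K' ≃ₐ[k] K'} {n : ℤ} (hn : 1 ≤ n) (hσ : G Q n σ)
    (hσt : Q.1 (σ t - t) ≤ exp (-(n + 1))) : G Q (n + 1) σ := by
  -- the maximal ideal
  have hm : ∀ y : K', Q.1 y < 1 → Q.1 (σ y - y) ≤ exp (-(n + 1)) := by
    intro y hy
    obtain ⟨z, rfl, hz⟩ := exists_eq_mul ht (m := 0) (y := y)
      (by simpa using (K661.Place.val_lt_one_iff_le Q y).1 hy)
    rw [neg_zero, exp_zero] at hz
    have h := val_diff_mul_le (Q := Q) (σ := σ) (t := t) (z := z) (a := exp (-(n + 1)))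
      (b := exp (-(n + 1))) ?_ ?_
    · simpa using h
    · calc Q.1 (σ t - t) * Q.1 (σ z) ≤ exp (-(n + 1)) * 1 := by
            have := hσ.le_one (by omega) z hz
            gcongr
        _ = _ := mul_one _
    · calc Q.1 t * Q.1 (σ z - z) ≤ exp (-1 : ℤ) * exp (-n) := by
            rw [ht]
            have := hσ z hz
            gcongr
        _ = exp (-(n + 1)) := by
            rw [← exp_add]
            congr 1
            ring
  intro x hx
  have hσx := hσ.le_one (by omega) x hx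
  let x' : Q.O := ⟨x, hx⟩
  let s' : Q.O := ⟨σ x, hσx⟩
  let xb : IsLocalRing.ResidueField Q.O := IsLocalRing.residue Q.O x'
  have hint : IsIntegral k xb := Algebra.IsIntegral.isIntegral xb
  have hsep : (minpoly k xb).Separable := Algebra.IsSeparable.isSeparable k xb
  let f := minpoly k xb
  let F : Polynomial Q.O := f.map (algebraMap k Q.O)
  have hres : ∀ g : Polynomial k, IsLocalRing.residue Q.O ((g.map (algebraMap k Q.O)).eval x') =
      Polynomial.aeval xb g := by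
    intro g
    rw [Polynomial.eval_map, Polynomial.hom_eval₂]
    rfl
  have hcoe : ∀ (g : Polynomial k) (a : Q.O), (((g.map (algebraMap k Q.O)).eval a : Q.O) : K') =
      Polynomial.aeval (a : K') g := by
    intro g a
    rw [Polynomial.eval_map]
    change Q.O.subtype _ = _
    rw [Polynomial.hom_eval₂]
    rfl
  have h1 : Q.1 (Polynomial.aeval x f) < 1 := by
    have h2 : IsLocalRing.residue Q.O (F.eval x') = 0 := by
      rw [hres]
      exact minpoly.aeval k xb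
    rw [IsLocalRing.residue_eq_zero_iff, K661.Place.mem_maximalIdeal_iff, hcoe] at h2
    exact h2
  have h3 : Q.1 (Polynomial.aeval x f.derivative) = 1 := by
    have h2 : IsLocalRing.residue Q.O ((f.derivative.map (algebraMap k Q.O)).eval x') ≠ 0 := by
      rw [hres]
      exact hsep.aeval_derivative_ne_zero (minpoly.aeval k xb)
    rw [Ne, IsLocalRing.residue_eq_zero_iff, K661.Place.mem_maximalIdeal_iff, hcoe, not_lt] at h2
    refine le_antisymm ?_ h2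
    have h4 := ((f.derivative.map (algebraMap k Q.O)).eval x').2
    rw [K661.Place.mem_O, hcoe] at h4
    exact h4
  obtain ⟨r, hr⟩ := F.binomExpansion x' (s' - x')
  have hr' := congrArg (fun a : Q.O => (a : K')) hr
  simp only [add_sub_cancel] at hr'
  rw [Polynomial.derivative_map] at hr'
  push_cast at hr'
  rw [hcoe, hcoe, hcoe] at hr'
  change Polynomial.aeval (σ x) f = Polynomial.aeval x f + Polynomial.aeval x f.derivative * (σ x - x) +
    (r : K') * (σ x - x) ^ 2 at hr'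
  have h5 : Polynomial.aeval (σ x) f = σ (Polynomial.aeval x f) :=
    Polynomial.aeval_algHom_apply (σ : K' →ₐ[k] K') x f
  have h6 : Polynomial.aeval x f.derivative * (σ x - x) =
      (σ (Polynomial.aeval x f) - Polynomial.aeval x f) - (r : K') * (σ x - x) ^ 2 := by
    rw [← h5, hr']
    ring
  have h7 : Q.1 (σ x - x) = Q.1 (Polynomial.aeval x f.derivative * (σ x - x)) := by
    rw [map_mul, h3, one_mul]
  rw [h7, h6]
  refine (Q.1.map_sub _ _).trans (max_le (hm _ h1) ?_)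
  rw [map_mul, map_pow]
  calc Q.1 (r : K') * Q.1 (σ x - x) ^ 2 ≤ 1 * exp (-n) ^ 2 := by
        have := hσ x hx
        have hr1 : Q.1 (r : K') ≤ 1 := r.2
        gcongr
    _ = exp (-(2 * n)) := by
        rw [one_mul, ← exp_nsmul]
        congr 1
        simp
    _ ≤ exp (-(n + 1)) := exp_le_exp.2 (by omega)

/-- The uniformizer criterion for membership in the ramification groups. -/
theorem G_of_uniformizer [Algebra.IsSeparable k (IsLocalRing.ResidueField Q.O)] {t : K'}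
    (ht : Q.1 t = exp (-1 : ℤ)) {σ : K' ≃ₐ[k] K'} (hσ : G Q 1 σ) (j : ℕ) (hj : 1 ≤ j)
    (hσt : Q.1 (σ t - t) ≤ exp (-(j : ℤ))) : G Q j σ := by
  induction j, hj using Nat.le_induction with
  | base => simpa using hσ
  | succ n hn ih =>
    push_cast at hσt ⊢
    exact G_succ ht (by exact_mod_cast hn) (ih (hσt.trans (exp_le_exp.2 (by omega)))) hσt

/-- For `σ ∈ G_i` and `y ∈ Q ^ m`, `σ y - y ∈ Q ^ (m + i - 1)`. -/
theorem G.diff_le {i : ℤ} (hi : 1 ≤ i) {σ : K' ≃ₐ[k] K'} (hσ : G Q i σ) (m : ℕ) {y : K'}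
    (hy : Q.1 y ≤ exp (-(m : ℤ))) : Q.1 (σ y - y) ≤ exp (-(m + i - 1)) := by
  obtain ⟨t, ht⟩ := K661.Place.exists_unif Q
  induction m generalizing y with
  | zero =>
    refine (hσ y (by simpa using hy)).trans (exp_le_exp.2 (by push_cast; omega))
  | succ m ih =>
    obtain ⟨z, rfl, hz⟩ := exists_eq_mul ht (m := m) (y := y) (by simpa using hy)
    have ht1 : Q.1 t ≤ 1 := by
      rw [ht]
      exact exp_le_one (by omega)
    have h := val_diff_mul_le (Q := Q) (σ := σ) (t := t) (z := z) (a := exp (-(m + i)))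
      (b := exp (-(m + i))) ?_ ?_
    · rw [max_self] at h
      convert h using 3
      push_cast
      ring
    · calc Q.1 (σ t - t) * Q.1 (σ z) ≤ exp (-i) * exp (-(m : ℤ)) := by
            rw [hσ.val_eq (by omega)]
            have := hσ t ht1
            gcongr
        _ = exp (-(m + i)) := by
            rw [← exp_add]
            congr 1
            ring
    · calc Q.1 t * Q.1 (σ z - z) ≤ exp (-1 : ℤ) * exp (-(m + i - 1)) := by
            rw [ht]
            have := ih hz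
            gcongr
        _ = exp (-(m + i)) := by
            rw [← exp_add]
            congr 1
            ring

variable (Q) in
/-- The additive group `Q ^ n`. -/
def idl (n : ℤ) : AddSubgroup K' where
  carrier := {y | Q.1 y ≤ exp (-n)}
  add_mem' {a b} ha hb := (Q.1.map_add a b).trans (max_le ha hb)
  zero_mem' := by simp
  neg_mem' {a} ha := by
    rw [Set.mem_ofPred_eq, Valuation.map_neg]
    exact ha

theorem mem_idl {n : ℤ} {y : K'} : y ∈ idl Q n ↔ Q.1 y ≤ exp (-n) := Iff.rfl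

/-- `σ ↦ σ x - x mod Q ^ (i + 1)` is a homomorphism on `G_i`, `i ≥ 2`. -/
def quotHom (i : ℕ) (hi : 2 ≤ i) (x : K') (hx : Q.1 x ≤ 1) :
    Gsub Q (i : ℤ) (by omega) →* Multiplicative (K' ⧸ idl Q ((i : ℤ) + 1)) where
  toFun σ := Multiplicative.ofAdd (QuotientAddGroup.mk (σ.1 x - x))
  map_one' := by simp
  map_mul' σ τ := by
    rw [← ofAdd_add, ← QuotientAddGroup.mk_add]
    congr 1
    rw [QuotientAddGroup.eq_iff_sub_mem, mem_idl]
    have h1 : ((σ * τ : Gsub Q (i : ℤ) (by omega)) : K' ≃ₐ[k] K') x - x - (σ.1 x - x + (τ.1 x - x)) =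
        σ.1 (τ.1 x - x) - (τ.1 x - x) := by
      rw [Subgroup.coe_mul, AlgEquiv.mul_apply, map_sub]
      ring
    rw [h1]
    exact (G.diff_le (i := i) (by omega) σ.2 i (τ.2 x hx)).trans (exp_le_exp.2 (by omega))

theorem quotHom_eq_one_iff (i : ℕ) (hi : 2 ≤ i) (x : K') (hx : Q.1 x ≤ 1)
    (σ : Gsub Q (i : ℤ) (by omega)) :
    quotHom i hi x hx σ = 1 ↔ Q.1 (σ.1 x - x) ≤ exp (-((i : ℤ) + 1)) := by
  rw [← mem_idl, ← QuotientAddGroup.eq_zero_iff]
  rfl

theorem G_succ_iff (i : ℕ) (hi : 2 ≤ i) (σ : Gsub Q (i : ℤ) (by omega)) :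
    G Q ((i : ℤ) + 1) σ.1 ↔ ∀ (x : K') (hx : Q.1 x ≤ 1), quotHom i hi x hx σ = 1 :=
  forall₂_congr fun x hx => (quotHom_eq_one_iff i hi x hx σ).symm

/-- A positive integer which is nonzero in `k` is a unit of `O_Q`. -/
theorem nsmul_mem_idl_iff {n : ℕ} (hn : (n : k) ≠ 0) {m : ℤ} {y : K'} :
    n • y ∈ idl Q m ↔ y ∈ idl Q m := by
  rw [mem_idl, mem_idl, nsmul_eq_mul, map_mul]
  have h1 : Q.1 (n : K') = 1 := by
    have := K661.Place.val_const Q hn
    rwa [map_natCast] at this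
  rw [h1, one_mul]

section Main

variable (i : ℕ) (hi : 2 ≤ i)
include hi

theorem commutator_mem {σ τ : K' ≃ₐ[k] K'} (hσ : G Q i σ) (hτ : G Q i τ) :
    G Q ((i : ℤ) + 1) (σ * τ * σ⁻¹ * τ⁻¹) := by
  let σ' : Gsub Q (i : ℤ) (by omega) := ⟨σ, hσ⟩
  let τ' : Gsub Q (i : ℤ) (by omega) := ⟨τ, hτ⟩
  refine (G_succ_iff i hi (σ' * τ' * σ'⁻¹ * τ'⁻¹)).2 fun x hx => ?_
  rw [map_mul, map_mul, map_mul, map_inv, map_inv]
  generalize quotHom i hi x hx σ' = a
  generalize quotHom i hi x hx τ' = b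
  rw [mul_comm a b]
  simp

theorem pow_char_mem {σ : K' ≃ₐ[k] K'} (hσ : G Q i σ) (p : ℕ) [CharP K' p] :
    G Q ((i : ℤ) + 1) (σ ^ p) := by
  let σ' : Gsub Q (i : ℤ) (by omega) := ⟨σ, hσ⟩
  refine (G_succ_iff i hi (σ' ^ p)).2 fun x hx => ?_
  rw [map_pow]
  change Multiplicative.ofAdd (p • (QuotientAddGroup.mk (σ x - x) : K' ⧸ idl Q ((i : ℤ) + 1))) = 1
  rw [← QuotientAddGroup.mk_nsmul, nsmul_eq_mul, CharP.cast_eq_zero K' p, zero_mul]
  rfl

theorem mem_of_charZero {σ : K' ≃ₐ[k] K'} (hσ : G Q i σ) {n : ℕ} (hn : (n : k) ≠ 0)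
    (hσn : σ ^ n = 1) : G Q ((i : ℤ) + 1) σ := by
  let σ' : Gsub Q (i : ℤ) (by omega) := ⟨σ, hσ⟩
  refine (G_succ_iff i hi σ').2 fun x hx => ?_
  have h1 : quotHom i hi x hx (σ' ^ n) = 1 := by
    have : σ' ^ n = 1 := Subtype.ext hσn
    rw [this, map_one]
  rw [map_pow] at h1
  change Multiplicative.ofAdd (n • (QuotientAddGroup.mk (σ x - x) : K' ⧸ idl Q ((i : ℤ) + 1))) = 1 at h1
  rw [← QuotientAddGroup.mk_nsmul] at h1
  change (QuotientAddGroup.mk (n • (σ x - x)) : K' ⧸ idl Q ((i : ℤ) + 1)) = 0 at h1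
  rw [QuotientAddGroup.eq_zero_iff, nsmul_mem_idl_iff hn, ← QuotientAddGroup.eq_zero_iff] at h1
  exact h1

end Main

section Tame

theorem val_div_eq_one {σ : K' ≃ₐ[k] K'} (hσ : G Q 1 σ) {t : K'} (ht : Q.1 t = exp (-1 : ℤ)) :
    Q.1 (σ t / t) = 1 := by
  rw [map_div₀, hσ.val_eq (by omega), ht]
  exact div_self exp_ne_zero

theorem G.one_div_sub {σ : K' ≃ₐ[k] K'} (hσ : G Q 1 σ) {u : K'} (hu : Q.1 u ≤ 1) :
    Q.1 (σ u - u) < 1 := (K661.Place.val_lt_one_iff_le Q _).2 (hσ u hu)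

/-- The tame character `σ ↦ σ t / t` on the inertia group. -/
noncomputable def tame (t : K') (ht : Q.1 t = exp (-1 : ℤ)) :
    Gsub Q 1 (by omega) →* IsLocalRing.ResidueField Q.O where
  toFun σ := IsLocalRing.residue Q.O ⟨σ.1 t / t, (val_div_eq_one σ.2 ht).le⟩
  map_one' := by
    have ht0 : t ≠ 0 := by
      rintro rfl
      rw [map_zero] at ht
      exact exp_ne_zero ht.symm
    rw [← map_one (IsLocalRing.residue Q.O)]
    congr 1
    apply Subtype.ext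
    change t / t = 1
    exact div_self ht0
  map_mul' σ τ := by
    have ht0 : t ≠ 0 := by
      rintro rfl
      rw [map_zero] at ht
      exact exp_ne_zero ht.symm
    have hσt0 : σ.1 t ≠ 0 := by simpa using ht0
    rw [← map_mul, ← sub_eq_zero, ← map_sub, IsLocalRing.residue_eq_zero_iff,
      K661.Place.mem_maximalIdeal_iff]
    have h1 : ((σ * τ : Gsub Q 1 (by omega)) : K' ≃ₐ[k] K') t / t - σ.1 t / t * (τ.1 t / t) =
        σ.1 t / t * (σ.1 (τ.1 t / t) - τ.1 t / t) := by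
      rw [Subgroup.coe_mul, AlgEquiv.mul_apply, map_div₀]
      field_simp
    change Q.1 (((σ * τ : Gsub Q 1 (by omega)) : K' ≃ₐ[k] K') t / t - σ.1 t / t * (τ.1 t / t)) < 1
    rw [h1, map_mul, val_div_eq_one σ.2 ht, one_mul]
    exact G.one_div_sub σ.2 (val_div_eq_one τ.2 ht).le

theorem tame_eq_one_iff {t : K'} (ht : Q.1 t = exp (-1 : ℤ)) (σ : Gsub Q 1 (by omega)) :
    tame t ht σ = 1 ↔ Q.1 (σ.1 t - t) ≤ exp (-(2 : ℤ)) := by
  have ht0 : t ≠ 0 := by
    rintro rfl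
    rw [map_zero] at ht
    exact exp_ne_zero ht.symm
  change IsLocalRing.residue Q.O ⟨σ.1 t / t, (val_div_eq_one σ.2 ht).le⟩ = 1 ↔ _
  rw [← map_one (IsLocalRing.residue Q.O), ← sub_eq_zero, ← map_sub,
    IsLocalRing.residue_eq_zero_iff, K661.Place.mem_maximalIdeal_iff]
  have h1 : σ.1 t - t = t * (σ.1 t / t - 1) := by
    field_simp
  rw [h1, map_mul, ht]
  change Q.1 (σ.1 t / t - 1) < 1 ↔ _
  rw [K661.Place.val_lt_one_iff_le]
  constructor
  · intro h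
    calc exp (-1 : ℤ) * Q.1 (σ.1 t / t - 1) ≤ exp (-1 : ℤ) * exp (-1 : ℤ) := by gcongr
      _ = exp (-(2 : ℤ)) := by
        rw [← exp_add]
        congr 1
  · intro h
    have h2 : (exp (-(2 : ℤ)) : ℤᵐ⁰) = exp (-1 : ℤ) * exp (-1 : ℤ) := by
      rw [← exp_add]
      congr 1
    rw [h2] at h
    exact (mul_le_mul_iff_right₀ (zero_lt_iff.2 exp_ne_zero)).1 h

theorem exists_gen_of_hom {Γ F : Type*} [Group Γ] [Finite Γ] [Field F] (θ₀ : Γ →* F) :
    ∃ g₀ : Γ, ∀ g : Γ, ∃ n : ℕ, θ₀ ((g₀ ^ n)⁻¹ * g) = 1 := by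
  let θ : Γ →* Fˣ := θ₀.toHomUnits
  have hfin2 : Finite (Γ ⧸ θ.ker) := Quotient.finite _
  have hinj : Function.Injective ((Units.coeHom F).comp (QuotientGroup.kerLift θ)) :=
    Units.val_injective.comp (QuotientGroup.kerLift_injective θ)
  have hcyc : IsCyclic (Γ ⧸ θ.ker) := isCyclic_of_injective_ringHom _ hinj
  obtain ⟨g, hg⟩ := IsCyclic.exists_monoid_generator (α := Γ ⧸ θ.ker)
  obtain ⟨g₀, rfl⟩ := QuotientGroup.mk_surjective g
  refine ⟨g₀, fun g => ?_⟩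
  obtain ⟨n, hn⟩ := Submonoid.mem_powers_iff _ _ |>.1 (hg (QuotientGroup.mk g))
  refine ⟨n, ?_⟩
  have h1 : ((QuotientGroup.mk (g₀ ^ n) : Γ ⧸ θ.ker)) = QuotientGroup.mk g := by
    rw [← hn]
    rfl
  rw [QuotientGroup.eq] at h1
  exact congrArg Units.val (MonoidHom.mem_ker.1 h1)

/-- `G_1 / G_2` is cyclic (on a finite subgroup `H` of automorphisms). -/
theorem exists_generator [Algebra.IsSeparable k (IsLocalRing.ResidueField Q.O)]
    (H : Subgroup (K' ≃ₐ[k] K')) [Finite H] :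
    ∃ σ₀ ∈ H, G Q 1 σ₀ ∧ ∀ σ ∈ H, G Q 1 σ → ∃ n : ℕ, G Q 2 ((σ₀ ^ n)⁻¹ * σ) := by
  obtain ⟨t, ht⟩ := K661.Place.exists_unif Q
  let H1 : Subgroup (K' ≃ₐ[k] K') := H ⊓ Gsub Q 1 (by omega)
  have hfin : Finite H1 := by
    have : Set.Finite (H : Set (K' ≃ₐ[k] K')) := Set.toFinite _
    exact (this.subset (fun x hx => hx.1)).to_subtype
  obtain ⟨σ₀, hσ₀⟩ := exists_gen_of_hom
    ((tame t ht).comp (Subgroup.inclusion (inf_le_right : H1 ≤ Gsub Q 1 (by omega))))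
  refine ⟨σ₀.1, σ₀.2.1, σ₀.2.2, fun σ hσH hσ => ?_⟩
  obtain ⟨n, hn⟩ := hσ₀ ⟨σ, hσH, hσ⟩
  refine ⟨n, ?_⟩
  have h3 := (tame_eq_one_iff ht _).1 hn
  exact G_of_uniformizer ht ((σ₀ ^ n)⁻¹ * (⟨σ, hσH, hσ⟩ : H1)).2.2 2 (by omega) h3

end Tame

end K662.Ram
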